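import Cfsg.Agent.Lib.Sporadic.McLRank.Data
import Cfsg.Agent.Lib.Sporadic.OutCert.McL.Defs

/-!
Kernel checks for the recognition of the McLaughlin group as a group of degree 275.
-/

set_option autoImplicit false
set_option maxRecDepth 100000
set_option maxHeartbeats 0

namespace CfsgLib.Sporadic.McLRank

open CfsgLib.Sporadic.OutCert

/-- Adjacency of points. -/
noncomputable def adjK (x y : ℕ) : Bool := Nat.testBit (lk 275 rowsK x) y

/-- The point of a neighbour index. -/
noncomputable def nbAt (i : ℕ) : ℕ := lk 9 nbK i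

/-- The point of a distant index. -/
noncomputable def farAt (v : ℕ) : ℕ := lk 9 farK v

/-- Adjacency of neighbour indices. -/
noncomputable def aljK (i j : ℕ) : Bool := Nat.testBit (lk 112 alK i) j

/-- A neighbour index is adjacent to a distant index. -/
noncomputable def muJK (v i : ℕ) : Bool := Nat.testBit (lk 112 muK v) i

/-- The numbers of the generators. -/
noncomputable def genK : List ℕ := genW.map McL.wk

/-- The generators as numbers on the neighbours. -/
noncomputable def genLK : List ℕ := genL.map Prod.fst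

/-- The image of a point under a product of generators. -/
noncomputable def appG (w : List ℕ) (x : ℕ) : ℕ := appK 9 (w.map fun k => genK.getD k 0) x

/-- The image of a neighbour index under a product of generators. -/
noncomputable def appL (w : List ℕ) (i : ℕ) : ℕ := appK 7 (w.map fun k => genLK.getD k 0) i

/-- A search list is sound: each entry is the image of an earlier one. -/
noncomputable def treeK (app : List ℕ → ℕ → ℕ) (ws : List (List ℕ)) (T : List (ℕ × ℕ × ℕ)) : Bool :=
  allF (fun k => Nat.beq k 0 || (Nat.blt (T.getD k (0, 0, 0)).2.1 k &&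
    (Nat.blt (T.getD k (0, 0, 0)).2.2 ws.length &&
      Nat.beq (app (ws.getD (T.getD k (0, 0, 0)).2.2 [])
        (T.getD (T.getD k (0, 0, 0)).2.1 (0, 0, 0)).1) (T.getD k (0, 0, 0)).1))) T.length

/-- The products consisting of one generator. -/
def singles : List (List ℕ) := [[0], [1], [2]]

/-- A point occurs in a search list. -/
noncomputable def inTree (T : List (ℕ × ℕ × ℕ)) (x : ℕ) : Bool := T.any fun e => Nat.beq e.1 x

theorem rows_symm : allF (fun x => !adjK x x && allF (fun y => adjK x y == adjK y x) 275) 275 = true := by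
  decide +kernel

theorem rows_a : allF (fun x => allF (fun y => adjK (lk 9 McL.ka x) (lk 9 McL.ka y) == adjK x y) 275) 275 =
    true := by
  decide +kernel

theorem rows_b : allF (fun x => allF (fun y => adjK (lk 9 McL.kb x) (lk 9 McL.kb y) == adjK x y) 275) 275 =
    true := by
  decide +kernel

theorem nb_ok : allF (fun i => Nat.blt (nbAt i) 275 && (adjK 0 (nbAt i) && Nat.beq (lk 7 posK (nbAt i)) i)) 112 =
    true ∧ allF (fun x => !adjK 0 x || (Nat.blt (lk 7 posK x) 112 && Nat.beq (nbAt (lk 7 posK x)) x)) 275 = true := by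
  decide +kernel

theorem far_ok : allF (fun v => Nat.blt (farAt v) 275 && (!Nat.beq (farAt v) 0 && (!adjK 0 (farAt v) &&
    Nat.beq (lk 8 farPosK (farAt v)) v))) 162 = true ∧
    allF (fun x => Nat.beq x 0 || adjK 0 x || (Nat.blt (lk 8 farPosK x) 162 &&
      Nat.beq (farAt (lk 8 farPosK x)) x)) 275 = true := by
  decide +kernel

theorem al_ok : allF (fun i => allF (fun j => aljK i j == adjK (nbAt i) (nbAt j)) 112) 112 = true := by
  decide +kernel

theorem mu_ok : allF (fun v => allF (fun i => muJK v i == adjK (farAt v) (nbAt i)) 112) 162 = true := by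
  decide +kernel

theorem mu_nodup : ((List.range 162).map (lk 112 muK)).Nodup := by decide +kernel

theorem gen_ok : genW.length = 3 ∧ genL.length = 3 ∧ (genL.all fun g => validK 7 112 g.1 g.2) = true ∧
    allF (fun k => Nat.beq (lk 9 (genK.getD k 0) 0) 0 &&
      allF (fun i => Nat.beq (nbAt (lk 7 (genLK.getD k 0) i)) (lk 9 (genK.getD k 0) (nbAt i))) 112) 3 = true := by
  decide +kernel

theorem words_lt : ((fixW ++ farFixW ++ singles ++ [fiveW, sevenW, rootW]).all fun w =>
    w.all fun k => Nat.blt k 3) = true := by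
  decide +kernel

theorem all_tree : treeK appL singles allTree = true ∧ allF (fun i => inTree allTree i) 112 = true ∧
    (allTree.getD 0 (0, 0, 0)).1 = 0 := by
  decide +kernel

theorem fix_ok : allF (fun k => Nat.beq (appL (fixW.getD k []) 0) 0) fixW.length = true ∧
    treeK appL fixW nearTree = true ∧ treeK appL fixW awayTree = true ∧
    (nearTree.getD 0 (0, 0, 0)).1 = 32 ∧ (awayTree.getD 0 (0, 0, 0)).1 = 1 ∧
    allF (fun i => if aljK 0 i then inTree nearTree i else Nat.beq i 0 || inTree awayTree i) 112 = true := by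
  decide +kernel

theorem far_tree : treeK appG singles farTree = true ∧ allF (fun v => inTree farTree (farAt v)) 162 = true ∧
    (farTree.getD 0 (0, 0, 0)).1 = farAt 0 := by
  decide +kernel

theorem far_fix : allF (fun k => Nat.beq (appG (farFixW.getD k []) (farAt 0)) (farAt 0)) farFixW.length = true ∧
    treeK appG farFixW farNearTree = true ∧ treeK appG farFixW farAwayTree = true ∧
    allF (fun v => Nat.beq v 0 ||
      if adjK (farAt 0) (farAt v) then inTree farNearTree (farAt v) else inTree farAwayTree (farAt v)) 162 = true ∧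
    ((List.range 162).countP fun v => adjK (farAt 0) (farAt v)) = 56 ∧
    ((List.range 112).countP fun i => muJK 0 i) = 56 ∧
    ((List.range 112).countP fun i => aljK 0 i) = 30 := by
  decide +kernel

/-- The lines through a neighbour. -/
noncomputable def linesAt (i : ℕ) : List (ℕ × ℕ × ℕ) := lineTab.getD i []

/-- Two neighbours have exactly the two others of their line as common neighbours. -/
noncomputable def comK (i a b c : ℕ) : Bool :=
  Nat.beq (lk 112 alK i &&& lk 112 alK a) (2 ^ b ||| 2 ^ c) && (!Nat.beq b c && aljK b c)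

theorem gq_ok : allF (fun i => Nat.beq ((linesAt i).foldr (fun t m => 2 ^ t.1 ||| 2 ^ t.2.1 ||| 2 ^ t.2.2 ||| m) 0)
      (lk 112 alK i) &&
    (linesAt i).all fun t => Nat.blt t.1 112 && Nat.blt t.2.1 112 && Nat.blt t.2.2 112 &&
      comK i t.1 t.2.1 t.2.2 && comK i t.2.1 t.1 t.2.2 && comK i t.2.2 t.1 t.2.1 &&
      Nat.beq (lk 112 alK i ||| lk 112 alK t.1 ||| lk 112 alK t.2.1 ||| lk 112 alK t.2.2) (2 ^ 112 - 1)) 112 =
    true := by
  decide +kernel

theorem five_ok : allF (fun i => Nat.beq (iterK 7 (fiveW.map fun k => genLK.getD k 0) 5 i) i) 112 = true ∧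
    ((List.range 112).countP fun i => Nat.beq (appL fiveW i) i) = 2 := by
  decide +kernel

theorem seven_ok : allF (fun i => Nat.beq (iterK 7 (sevenW.map fun k => genLK.getD k 0) 7 i) i) 112 = true ∧
    Nat.beq (appL sevenW 0) 0 = false ∧
    allF (fun i => Nat.blt (lk 4 cycK i) 16 &&
      Nat.beq (iterK 7 (sevenW.map fun k => genLK.getD k 0) (cycPow.getD i 0)
        (cycRep.getD (lk 4 cycK i) 0)) i && Nat.blt (cycRep.getD (lk 4 cycK i) 0) 112) 112 = true := by
  decide +kernel

/-- The rest of the line of a point off the axis. -/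
noncomputable def optAt (y : ℕ) : ℕ × ℕ × ℕ := optTab.getD y (0, 0, 0)

/-- The root element on the neighbours. -/
noncomputable def rootL (y : ℕ) : ℕ := appL rootW y

theorem root_ok : axis = [15, 29, 51, 103] ∧ aljK 15 29 = true ∧
    Nat.beq (lk 112 alK 15 &&& lk 112 alK 29) (2 ^ 51 ||| 2 ^ 103) = true ∧
    allF (fun y => if axis.contains y then Nat.beq (rootL y) y else
      axis.contains (optAt y).1 && (aljK (optAt y).1 y &&
        (Nat.beq (lk 112 alK (optAt y).1 &&& lk 112 alK y) (2 ^ (optAt y).2.1 ||| 2 ^ (optAt y).2.2) &&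
          (axis.all fun z => !aljK z y || Nat.beq z (optAt y).1) &&
          (Nat.beq (rootL y) (optAt y).2.1 || Nat.beq (rootL y) (optAt y).2.2)))) 112 = true ∧
    startPt = 0 ∧ axis.contains startPt = false ∧
    Nat.beq (rootL (rootL (rootL startPt))) startPt = true ∧
    (((rootL startPt, rootL (rootL startPt)) == ((optAt startPt).2.1, (optAt startPt).2.2)) ||
      ((rootL (rootL startPt), rootL startPt) == ((optAt startPt).2.1, (optAt startPt).2.2))) = true := by
  decide +kernel

/-- The propagation reaches every point. -/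
noncomputable def chainK : List (ℕ × ℕ) → List ℕ → Bool
  | [], known => allF (fun y => known.contains y) 112
  | (y, z) :: rest, known => Nat.blt y 112 && (Nat.blt z 112 && (!axis.contains y && (known.contains z &&
      ((aljK (optAt y).2.1 z != aljK y z) && ((aljK (optAt y).2.2 z != aljK y z) &&
        chainK rest (y :: known))))))

theorem chain_ok : chainK chain (startPt :: axis) = true := by decide +kernel

/-- The count of a level condition on a line. -/
noncomputable def cntK (m : ℕ) (l : ℕ × ℕ × ℕ × ℕ) : ℕ :=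
  (if Nat.testBit m (lk 4 cycK l.1) then 1 else 0) + (if Nat.testBit m (lk 4 cycK l.2.1) then 1 else 0) +
    (if Nat.testBit m (lk 4 cycK l.2.2.1) then 1 else 0) + (if Nat.testBit m (lk 4 cycK l.2.2.2) then 1 else 0)

/-- The search for invariant sets meeting every line in two points. -/
noncomputable def searchK : List (List (ℕ × ℕ × ℕ × ℕ)) → ℕ → ℕ → Bool
  | [], _, m => sols.any fun s => Nat.beq s.1 m
  | ls :: rest, k, m =>
    ((ls.any fun l => !Nat.beq (cntK m l) 2) || searchK rest (k + 1) m) &&
    ((ls.any fun l => !Nat.beq (cntK (m + 2 ^ k) l) 2) || searchK rest (k + 1) (m + 2 ^ k))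

theorem search_ok : searchK levels 0 0 = true := by decide +kernel

theorem levels_ok : levels.length = 16 ∧ allF (fun k => (levels.getD k []).all fun l =>
    Nat.blt l.1 112 && Nat.blt l.2.1 112 && Nat.blt l.2.2.1 112 && Nat.blt l.2.2.2 112 &&
    Nat.blt (lk 4 cycK l.1) (k + 1) && Nat.blt (lk 4 cycK l.2.1) (k + 1) &&
    Nat.blt (lk 4 cycK l.2.2.1) (k + 1) && Nat.blt (lk 4 cycK l.2.2.2) (k + 1) &&
    aljK l.1 l.2.1 && Nat.beq (lk 112 alK l.1 &&& lk 112 alK l.2.1) (2 ^ l.2.2.1 ||| 2 ^ l.2.2.2)) 16 = true := by
  decide +kernel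

theorem aut_ok : autL.length = 4 ∧ (autL.all fun g => validK 7 112 g.1 g.2) = true ∧
    allF (fun j => allF (fun x => allF (fun y =>
      aljK (lk 7 (autL.getD j (0, 0)).1 x) (lk 7 (autL.getD j (0, 0)).1 y) == aljK x y) 112) 112) 4 = true := by
  decide +kernel

theorem sols_ok : (sols.all fun s => Nat.blt s.2.1 4 && (Nat.blt s.2.2 162 &&
    allF (fun i => Nat.testBit s.1 (lk 4 cycK i) ==
      muJK s.2.2 (lk 7 (autL.getD s.2.1 (0, 0)).1 i)) 112)) = true := by
  decide +kernel

end CfsgLib.Sporadic.McLRank
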