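import Cfsg.Agent.Lib.Sporadic.McLRank.Local

/-!
Counting in the model: degrees, common neighbours, and the lines through a neighbour.
-/

set_option autoImplicit false
set_option maxRecDepth 100000

namespace CfsgLib.Sporadic.McLRank

open CfsgLib.Sporadic.OutCert

theorem line_len : allF (fun i => Nat.beq (linesAt i).length 10) 112 = true := by decide +kernel

theorem away_com : ((List.range 112).countP fun i => aljK 0 i && aljK 1 i) = 10 ∧ aljK 0 1 = false ∧
    ((List.range 112).countP fun i => !aljK 0 i && !Nat.beq i 0) = 81 ∧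
    ((List.range 162).countP fun v => !adjK (farAt 0) (farAt v) && !Nat.beq v 0) = 105 := by
  decide +kernel

theorem card_filter_range {N : ℕ} {p : Fin N → Prop} [DecidablePred p] {b : ℕ → Bool}
    (h : ∀ i : Fin N, p i ↔ b i = true) :
    (Finset.univ.filter p).card = (List.range N).countP b := by
  classical
  rw [← List.map_coe_finRange_eq_range, List.countP_map, List.countP_eq_length_filter,
    ← List.toFinset_card_of_nodup ((List.nodup_finRange N).filter _)]
  congr 1
  ext i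
  simp [h i]

attribute [local irreducible] lk pkF allF compK iterK alK muK lineTab genL optTab cycK

theorem card_alj (p : Fin 112) [DecidablePred (Alj p)] : (Finset.univ.filter (Alj p)).card = 30 := by
  classical
  obtain ⟨u, rfl⟩ := trans_all p
  rw [← far_fix.2.2.2.2.2.2, ← card_filter_range (p := fun i : Fin 112 => Alj 0 i)
    (b := fun i => aljK 0 i) fun i => Iff.rfl]
  refine Finset.card_equiv (loc u)⁻¹ fun i => ?_
  simp only [Finset.mem_filter, Finset.mem_univ, true_and]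
  rw [← isAut_loc u 0, perm_apply_inv]

theorem not_alj_01 : ¬ Alj 0 1 := by
  intro h
  have h' : aljK 0 1 = true := h
  rw [away_com.2.1] at h'
  exact Bool.false_ne_true h'

theorem card_away_com {p q : Fin 112} (h : ¬ Alj p q) (hne : p ≠ q) [DecidablePred fun i => Alj p i ∧ Alj q i] :
    (Finset.univ.filter fun i => Alj p i ∧ Alj q i).card = 10 := by
  classical
  obtain ⟨u, rfl, rfl⟩ := trans_apart not_alj_01 (by decide) h hne
  rw [← away_com.1, ← card_filter_range (p := fun i : Fin 112 => Alj 0 i ∧ Alj 1 i)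
    (b := fun i => aljK 0 i && aljK 1 i) fun i => (Bool.and_eq_true _ _).to_iff.symm]
  refine Finset.card_equiv (loc u)⁻¹ fun i => ?_
  simp only [Finset.mem_filter, Finset.mem_univ, true_and]
  rw [← isAut_loc u 0, ← isAut_loc u 1, perm_apply_inv]

theorem card_away (p : Fin 112) [DecidablePred fun i => ¬ Alj p i ∧ i ≠ p] :
    (Finset.univ.filter fun i => ¬ Alj p i ∧ i ≠ p).card = 81 := by
  classical
  obtain ⟨u, rfl⟩ := trans_all p
  rw [← away_com.2.2.1, ← card_filter_range (p := fun i : Fin 112 => ¬ Alj 0 i ∧ i ≠ 0)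
    (b := fun i => !aljK 0 i && !Nat.beq i 0) fun i => by
    unfold Alj
    simp [Fin.ext_iff, ← Nat.beq_eq]]
  refine Finset.card_equiv (loc u)⁻¹ fun i => ?_
  simp only [Finset.mem_filter, Finset.mem_univ, true_and]
  rw [← isAut_loc u 0, perm_apply_inv]
  refine and_congr_right fun _ => not_congr ⟨fun e => by rw [e, perm_inv_apply], fun e => ?_⟩
  rw [← perm_apply_inv (loc u) i, e]

theorem card_mu : (Finset.univ.filter fun i : Fin 112 => muJK 0 i = true).card = 56 := by
  rw [← far_fix.2.2.2.2.2.1, ← card_filter_range fun i => Iff.rfl]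

theorem card_far_near [DecidablePred fun v : Fin 162 => Adj (far 0) (far v)] :
    (Finset.univ.filter fun v : Fin 162 => Adj (far 0) (far v)).card = 56 := by
  rw [← far_fix.2.2.2.2.1, ← card_filter_range (p := fun v : Fin 162 => Adj (far 0) (far v))
    (b := fun v => adjK (farAt 0) (farAt v)) fun i => Iff.rfl]

theorem card_far_away [DecidablePred fun v : Fin 162 => ¬ Adj (far 0) (far v) ∧ v ≠ 0] :
    (Finset.univ.filter fun v : Fin 162 => ¬ Adj (far 0) (far v) ∧ v ≠ 0).card = 105 := by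
  rw [← away_com.2.2.2, ← card_filter_range (p := fun v : Fin 162 => ¬ Adj (far 0) (far v) ∧ v ≠ 0)
    (b := fun v => !adjK (farAt 0) (farAt v) && !Nat.beq v 0) fun v => by
    unfold Adj far
    simp [Fin.ext_iff, ← Nat.beq_eq]]

/-- The ten lines through a neighbour. -/
theorem exists_lines (p : Fin 112) : ∃ l : List (Fin 112 × Fin 112 × Fin 112), l.length = 10 ∧
    (∀ t ∈ l, IsQuad p t.1 t.2.1 t.2.2) ∧ ∀ x, Alj p x → ∃ t ∈ l, x = t.1 ∨ x = t.2.1 ∨ x = t.2.2 := by
  have hi := allF_iff.1 gq_ok p p.2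
  simp only [Bool.and_eq_true, Nat.beq_eq, List.all_eq_true, Nat.blt_eq] at hi
  refine ⟨(linesAt p).map fun t => (⟨t.1 % 112, Nat.mod_lt _ (by norm_num)⟩,
    ⟨t.2.1 % 112, Nat.mod_lt _ (by norm_num)⟩, ⟨t.2.2 % 112, Nat.mod_lt _ (by norm_num)⟩), ?_, ?_, ?_⟩
  · rw [List.length_map]
    exact Nat.beq_eq ▸ allF_iff.1 line_len p p.2
  · intro t ht
    obtain ⟨s, hs, rfl⟩ := List.mem_map.1 ht
    obtain ⟨⟨⟨⟨⟨⟨l1, l2⟩, l3⟩, c1⟩, c2⟩, c3⟩, -⟩ := hi.2 s hs
    simp only [comK, Bool.and_eq_true, Nat.beq_eq] at c1 c2 c3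
    simp only [Nat.mod_eq_of_lt, l1, l2, l3]
    have a := com_of_mask (i := p) (j := ⟨s.1, l1⟩) (b := ⟨s.2.1, l2⟩) (c := ⟨s.2.2, l3⟩) c1.1
    exact ⟨((com_of_mask (i := p) (j := ⟨s.2.1, l2⟩) (b := ⟨s.1, l1⟩) (c := ⟨s.2.2, l3⟩) c2.1 _).2
        (Or.inl rfl)).1, ((a _).2 (Or.inl rfl)).1, ((a _).2 (Or.inr rfl)).1, ((a _).2 (Or.inl rfl)).2,
        ((a _).2 (Or.inr rfl)).2, c1.2.2⟩
  · intro x hx
    obtain ⟨t, ht, e⟩ := testBit_union (l := linesAt p) (j := x) (by rw [hi.1]; exact hx)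
    obtain ⟨⟨⟨⟨⟨⟨l1, l2⟩, l3⟩, -⟩, -⟩, -⟩, -⟩ := hi.2 t ht
    refine ⟨_, List.mem_map_of_mem ht, ?_⟩
    simp only [Nat.mod_eq_of_lt, l1, l2, l3, Fin.ext_iff]
    omega

end CfsgLib.Sporadic.McLRank
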