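import Mathlib

/-!
The orbital graph of a transitive group of degree 275 with suborbits of sizes 112 and 162.
-/

set_option autoImplicit false

namespace CfsgLib.Sporadic.McLRank

open Finset
open scoped Classical

variable {Ω : Type*} [Fintype Ω] [DecidableEq Ω]

/-- The orbital of a pair. -/
def orbital (G : Subgroup (Equiv.Perm Ω)) (a b : Ω) : Ω → Ω → Prop := fun x y => ∃ g : G, g • a = x ∧ g • b = y

theorem orbital_smul (G : Subgroup (Equiv.Perm Ω)) (a b : Ω) (g : G) {x y : Ω} :
    orbital G a b (g • x) (g • y) ↔ orbital G a b x y := by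
  constructor
  · rintro ⟨k, h1, h2⟩
    refine ⟨g⁻¹ * k, ?_, ?_⟩ <;> rw [mul_smul, inv_smul_eq_iff] <;> assumption
  · rintro ⟨k, rfl, rfl⟩
    exact ⟨g * k, mul_smul .., mul_smul ..⟩

/-- The facts used about the orbital graph. -/
structure GraphData (G : Subgroup (Equiv.Perm Ω)) (a b c : Ω) (R : Ω → Ω → Prop) : Prop where
  symm : ∀ {x y}, R x y → R y x
  irrefl : ∀ x, ¬ R x x
  inv : ∀ (g : G) (x y : Ω), R (g • x) (g • y) ↔ R x y
  base : ∀ y, R a y ↔ y ∈ MulAction.orbit (MulAction.stabilizer G a) b
  cover : ∀ y, y ≠ a → ¬ R a y → y ∈ MulAction.orbit (MulAction.stabilizer G a) c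
  ac : a ≠ c
  nac : ¬ R a c
  degree : ∀ x, (univ.filter (R x)).card = 112
  count : 112 + 112 * (univ.filter fun z => R a z ∧ R b z).card +
    162 * (univ.filter fun z => R a z ∧ R c z).card = 12544
  not_full : (univ.filter fun z => R a z ∧ R b z).card ≠ 111

theorem not_full_aux {R : Ω → Ω → Prop} (hΩ : Fintype.card Ω = 275)
    (hsymm : ∀ x y, R x y → R y x) (hirr : ∀ x, ¬ R x x) (hval : ∀ x, (univ.filter (R x)).card = 112)
    (hl : ∀ x y, R x y → (univ.filter fun z => R x z ∧ R y z).card = 111) : False := by
  let C : Ω → Finset Ω := fun x => insert x (univ.filter (R x))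
  have hC : ∀ x, (C x).card = 113 := fun x => by
    rw [card_insert_of_notMem (by simp [hirr x]), hval x]
  have hCC : ∀ x y, R x y → C y = C x := by
    intro x y hxy
    symm
    refine eq_of_subset_of_card_le ?_ (by rw [hC, hC])
    have hfull : (univ.filter fun z => R x z ∧ R y z) = (univ.filter (R x)).erase y := by
      refine eq_of_subset_of_card_le (fun z hz => ?_) ?_
      · simp only [mem_filter, mem_univ, true_and] at hz
        simp only [mem_erase, mem_filter, mem_univ, true_and]
        exact ⟨fun e => hirr y (e ▸ hz.2), hz.1⟩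
      · rw [card_erase_of_mem (by simp [hxy]), hval x, hl x y hxy]
    intro z hz
    simp only [C, mem_insert, mem_filter, mem_univ, true_and] at hz ⊢
    rcases hz with rfl | hz
    · exact Or.inr (hsymm _ _ hxy)
    · by_cases hzy : z = y
      · exact Or.inl hzy
      · have hmem : z ∈ (univ.filter (R x)).erase y := by simp [hzy, hz]
        rw [← hfull] at hmem
        simp only [mem_filter, mem_univ, true_and] at hmem
        exact Or.inr hmem.2
  have hfib : ∀ x, (univ.filter fun y => C y = C x) = C x := by
    intro x
    ext y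
    simp only [mem_filter, mem_univ, true_and]
    constructor
    · intro e
      exact e ▸ mem_insert_self _ _
    · intro hy
      simp only [C, mem_insert, mem_filter, mem_univ, true_and] at hy
      rcases hy with rfl | hy
      · rfl
      · exact hCC x y hy
  have h := card_eq_sum_card_image C (univ : Finset Ω)
  rw [card_univ, hΩ, sum_congr rfl (g := fun _ => 113)] at h
  · rw [sum_const, smul_eq_mul] at h
    omega
  · intro S hS
    obtain ⟨x, -, rfl⟩ := mem_image.1 hS
    rw [hfib x, hC x]

theorem graphData (hΩ : Fintype.card Ω = 275) (G : Subgroup (Equiv.Perm Ω)) [MulAction.IsPretransitive G Ω]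
    (a b c : Ω) (hb : (MulAction.orbit (MulAction.stabilizer G a) b).ncard = 112)
    (hc : (MulAction.orbit (MulAction.stabilizer G a) c).ncard = 162) :
    GraphData G a b c (orbital G a b) := by
  let H := MulAction.stabilizer G a
  let R := orbital G a b
  have hRG : ∀ (g : G) {x y : Ω}, R (g • x) (g • y) ↔ R x y := fun g => orbital_smul G a b g
  have hfixa : MulAction.orbit H a = {a} :=
    Set.eq_singleton_iff_unique_mem.2 ⟨MulAction.mem_orbit_self a, by rintro _ ⟨h, rfl⟩; exact h.2⟩
  have hab : a ∉ MulAction.orbit H b := by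
    intro h
    have := MulAction.orbit_eq_iff.2 h
    rw [hfixa] at this
    rw [← this] at hb
    simp at hb
  have hac : a ∉ MulAction.orbit H c := by
    intro h
    have := MulAction.orbit_eq_iff.2 h
    rw [hfixa] at this
    rw [← this] at hc
    simp at hc
  have hdisj : Disjoint (MulAction.orbit H b) (MulAction.orbit H c) := by
    rw [Set.disjoint_left]
    intro y hy hy'
    have h1 := (MulAction.orbit_eq_iff.2 hy).symm.trans (MulAction.orbit_eq_iff.2 hy')
    have h2 := hb.symm.trans ((congrArg Set.ncard h1).trans hc)
    omega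
  have hcover : ∀ y, y ≠ a → y ∉ MulAction.orbit H b → y ∈ MulAction.orbit H c := by
    intro y hya hyb
    by_contra hyc
    have hsub : MulAction.orbit H b ∪ MulAction.orbit H c ⊆ ({a, y} : Set Ω)ᶜ := by
      intro w hw
      simp only [Set.mem_compl_iff, Set.mem_insert_iff, Set.mem_singleton_iff]
      rintro (rfl | rfl)
      · exact hw.elim hab hac
      · exact hw.elim hyb hyc
    have := Set.ncard_le_ncard hsub
    rw [Set.ncard_union_eq hdisj, hb, hc, Set.ncard_compl, Set.ncard_pair (Ne.symm hya),
      Nat.card_eq_fintype_card, hΩ] at this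
    omega
  have hbase : ∀ y, R a y ↔ y ∈ MulAction.orbit H b := fun y =>
    ⟨fun ⟨g, h1, h2⟩ => ⟨⟨g, h1⟩, h2⟩, fun ⟨g, hg⟩ => ⟨g.1, g.2, hg⟩⟩
  have hcount : ∀ (p : Ω → Ω → Prop) (g : G) (x : Ω), (∀ z, p (g • x) (g • z) ↔ p x z) →
      (univ.filter (p (g • x))).card = (univ.filter (p x)).card := by
    intro p g x hp
    symm
    refine card_bij (fun z _ => g • z) ?_ ?_ ?_
    · intro z hz
      simpa [hp] using hz
    · intro z _ w _ e
      exact MulAction.injective g e
    · intro z hz
      refine ⟨g⁻¹ • z, ?_, smul_inv_smul g z⟩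
      simp only [mem_filter, mem_univ, true_and] at hz ⊢
      rw [← hp, smul_inv_smul]
      exact hz
  have hout : ∀ x, (univ.filter (R x)).card = 112 := by
    intro x
    obtain ⟨g, rfl⟩ := MulAction.exists_smul_eq G a x
    rw [hcount R g a (fun z => hRG g), ← hb, ← Set.ncard_coe_finset]
    refine congrArg Set.ncard (Set.ext fun z => ?_)
    simp only [coe_filter, mem_univ, true_and, Set.mem_ofPred_eq]
    exact hbase z
  have hin : ∀ x, (univ.filter fun z => R z x).card = 112 := by
    have hconst : ∀ x, (univ.filter fun z => R z x).card = (univ.filter fun z => R z a).card := by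
      intro x
      obtain ⟨g, rfl⟩ := MulAction.exists_smul_eq G a x
      exact hcount (fun x z => R z x) g a (fun z => hRG g)
    have h := sum_card_bipartiteAbove_eq_sum_card_bipartiteBelow (r := R)
      (s := (univ : Finset Ω)) (t := (univ : Finset Ω))
    simp only [bipartiteAbove, bipartiteBelow] at h
    rw [sum_congr rfl fun x _ => hout x, sum_congr rfl fun x _ => hconst x, sum_const, sum_const,
      card_univ, hΩ, smul_eq_mul, smul_eq_mul] at h
    intro x
    rw [hconst x]
    omega
  have hirr : ∀ x, ¬ R x x := by
    rintro x ⟨g, rfl, h⟩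
    rw [smul_left_cancel_iff] at h
    subst h
    exact hab (MulAction.mem_orbit_self _)
  have hba : R b a := by
    obtain ⟨g, hg⟩ := MulAction.exists_smul_eq G b a
    have hmem : R (g • a) a := by
      have h1 : R (g • a) (g • b) := (hRG g).2 ((hbase b).2 (MulAction.mem_orbit_self b))
      rwa [hg] at h1
    have hya : g • a ≠ a := fun e => hirr a (by rwa [e] at hmem)
    by_cases hy : g • a ∈ MulAction.orbit H b
    · have : R (g • b) (g • a) := by rw [hg]; exact (hbase _).2 hy
      exact (hRG g).1 this
    · exfalso
      have hyc := hcover _ hya hy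
      have hsub : MulAction.orbit H c ⊆ ↑(univ.filter fun z => R z a) := by
        intro z hz
        rw [← MulAction.orbit_eq_iff.2 hyc] at hz
        obtain ⟨k, rfl⟩ := hz
        simp only [coe_filter, mem_univ, true_and, Set.mem_ofPred_eq]
        have h1 := (hRG k.1).2 hmem
        rw [show k.1 • a = a from k.2] at h1
        exact h1
      have := Set.ncard_le_ncard hsub
      rw [hc, Set.ncard_coe_finset, hin a] at this
      omega
  have hsymm : ∀ x y, R x y → R y x := by
    rintro x y ⟨g, rfl, rfl⟩
    exact (hRG g).2 hba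
  let f : Ω → Ω → ℕ := fun x y => (univ.filter fun z => R x z ∧ R y z).card
  have hf : ∀ (g : G) (x y : Ω), f (g • x) (g • y) = f x y := by
    intro g x y
    symm
    refine card_bij (fun z _ => g • z) ?_ ?_ ?_
    · intro z hz
      simpa [hRG] using hz
    · intro z _ w _ e
      exact MulAction.injective g e
    · intro z hz
      refine ⟨g⁻¹ • z, ?_, smul_inv_smul g z⟩
      simp only [mem_filter, mem_univ, true_and] at hz ⊢
      rw [← hRG g, ← hRG g (x := y), smul_inv_smul]
      exact hz
  have hl : ∀ x y, R x y → f x y = f a b := by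
    rintro x y ⟨g, rfl, rfl⟩
    exact hf g a b
  have hm : ∀ y, y ≠ a → ¬ R a y → f a y = f a c := by
    intro y hne hn
    obtain ⟨k, rfl⟩ := hcover y hne fun h => hn ((hbase y).2 h)
    rw [show f a (k • c) = f (k.1 • a) (k.1 • c) from by rw [show k.1 • a = a from k.2]; rfl]
    exact hf k.1 a c
  have hsum : 112 + 112 * f a b + 162 * f a c = 12544 := by
    have h1 : ∑ y, f a y = 12544 := by
      have h := sum_card_bipartiteAbove_eq_sum_card_bipartiteBelow (r := R)
        (s := (univ : Finset Ω)) (t := univ.filter (R a))
      simp only [bipartiteAbove, bipartiteBelow] at h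
      rw [sum_congr rfl (fun z _ => hin z), sum_const, hout a, smul_eq_mul] at h
      refine Eq.trans ?_ h
      refine sum_congr rfl fun y _ => congrArg Finset.card ?_
      ext z
      simp [and_comm]
    have haa : f a a = 112 := by
      refine Eq.trans (congrArg Finset.card ?_) (hout a)
      ext z
      simp
    rw [← add_sum_erase univ (fun y => f a y) (mem_univ a), haa,
      ← sum_filter_add_sum_filter_not (univ.erase a) (R a),
      sum_congr rfl (fun y hy => hl a y (mem_filter.1 hy).2),
      sum_congr rfl (fun y hy => hm y (mem_erase.1 (mem_filter.1 hy).1).1 (mem_filter.1 hy).2),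
      sum_const, sum_const, smul_eq_mul, smul_eq_mul] at h1
    have e1 : ((univ.erase a).filter (R a)).card = 112 := by
      refine Eq.trans (congrArg Finset.card ?_) (hout a)
      ext z
      simp only [mem_filter, mem_erase, mem_univ, and_true, true_and]
      exact ⟨fun h => h.2, fun h => ⟨fun e => hirr a (e ▸ h), h⟩⟩
    have e2 : ((univ.erase a).filter fun y => ¬ R a y).card = 162 := by
      have := card_filter_add_card_filter_not (s := univ.erase a) (R a)
      rw [e1, card_erase_of_mem (mem_univ a), card_univ, hΩ] at this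
      omega
    rw [e1, e2] at h1
    omega
  exact
    { symm := fun h => hsymm _ _ h
      irrefl := hirr
      inv := fun g x y => hRG g
      base := hbase
      cover := fun y h1 h2 => hcover y h1 fun h => h2 ((hbase y).2 h)
      ac := fun e => hac (by rw [e]; exact MulAction.mem_orbit_self c)
      nac := fun h => Set.disjoint_left.1 hdisj ((hbase c).1 h) (MulAction.mem_orbit_self c)
      degree := hout
      count := hsum
      not_full := fun h => not_full_aux hΩ hsymm hirr hout fun x y hxy => (hl x y hxy).trans h }

end CfsgLib.Sporadic.McLRank
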