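import Cfsg.Agent.Lib.Sporadic.McLRank.Labelling
import Cfsg.Agent.S0283

/-!
A transitive group of degree 275 with point stabiliser U4(3) and suborbits of sizes 112 and 162 is the
McLaughlin group.
-/

set_option autoImplicit false
set_option maxRecDepth 10000

open scoped Classical

namespace CfsgLib.Sporadic.McLRank

open CfsgLib.Sporadic.OutCert

attribute [local irreducible] lk pkF allF compK iterK rowsK alK muK lineTab genL optTab cycK

variable {Ω : Type*} [Fintype Ω] [DecidableEq Ω] {G : Subgroup (Equiv.Perm Ω)} {a b c : Ω}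
  {R : Ω → Ω → Prop}

/-- A permutation preserves the graph. -/
def IsGraphAut (g : P) : Prop := ∀ x y, Adj (g x) (g y) ↔ Adj x y

theorem IsGraphAut.mul {g h : P} (hg : IsGraphAut g) (hh : IsGraphAut h) : IsGraphAut (g * h) := fun x y =>
  (hg (h x) (h y)).trans (hh x y)

theorem IsGraphAut.inv {g : P} (hg : IsGraphAut g) : IsGraphAut g⁻¹ := fun x y => by
  have := hg (g⁻¹ x) (g⁻¹ y)
  rw [perm_apply_inv, perm_apply_inv] at this
  exact this.symm

theorem eq_of_local {g h : P} (hg : IsGraphAut g) (hh : IsGraphAut h) (hg0 : g 0 = 0) (hh0 : h 0 = 0)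
    (hnb : ∀ i, g (nb i) = h (nb i)) : g = h := by
  refine Equiv.ext fun x => ?_
  by_cases h0 : x = 0
  · rw [h0, hg0, hh0]
  by_cases hx : Adj 0 x
  · obtain ⟨i, rfl⟩ := exists_nb hx
    exact hnb i
  have hk : ∀ k : P, IsGraphAut k → k 0 = 0 → ∃ v, far v = k x := fun k hk hk0 => by
    refine exists_far (fun e => h0 (k.injective (e.trans hk0.symm))) fun e => hx ?_
    rw [← hk0] at e
    exact (hk 0 x).1 e
  obtain ⟨v, hv⟩ := hk g hg hg0
  obtain ⟨w, hw⟩ := hk h hh hh0
  rw [← hv, ← hw]
  congr 1
  refine mu_injective fun i => ?_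
  have e0 : g (g⁻¹ (nb i)) = nb i := perm_apply_inv g _
  have hi : Adj 0 (g⁻¹ (nb i)) := by
    have := (hg.inv 0 (nb i)).2 (adj_nb i)
    rwa [Equiv.Perm.inv_eq_iff_eq.2 hg0.symm] at this
  obtain ⟨j, hj⟩ := exists_nb hi
  rw [← hj] at e0
  have e1 : h (nb j) = nb i := (hnb j).symm.trans e0
  rw [mu_iff, mu_iff, hv, hw]
  nth_rewrite 1 [← e0]
  rw [← e1, hg, hh]

/-- The action of a graph automorphism fixing 0 on the neighbours. -/
theorem exists_local {m : P} (hm : IsGraphAut m) (h0 : m 0 = 0) :
    ∃ σ : L, IsAut σ ∧ ∀ i, nb (σ i) = m (nb i) := by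
  have hmap : ∀ i, ∃ j, nb j = m (nb i) := fun i => exists_nb (by
    have := (hm 0 (nb i)).2 (adj_nb i)
    rwa [h0] at this)
  choose f hf using hmap
  have hinj : Function.Injective f := fun i j e => nb_injective (m.injective (by rw [← hf, ← hf, e]))
  refine ⟨Equiv.ofBijective f (Finite.injective_iff_bijective.1 hinj), fun i j => ?_, hf⟩
  show Alj (f i) (f j) ↔ _
  rw [alj_iff, alj_iff, hf, hf, hm]

theorem U_aut (u : U) : IsGraphAut (u : P) := fun x y => U_adj u x y

theorem sum_le_lines : ∀ (l : List (Fin 112 × Fin 112 × Fin 112)) (n : Fin 112 × Fin 112 × Fin 112 → ℕ),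
    (∀ t ∈ l, n t ≤ 2) → ∀ t0 ∈ l, n t0 = 0 → (l.map n).sum + 2 ≤ 2 * l.length
  | [], _, _, _, h, _ => by simp at h
  | t :: l, n, hle, t0, ht0, h0 => by
    have hl : ∀ {l : List (Fin 112 × Fin 112 × Fin 112)}, (∀ t ∈ l, n t ≤ 2) → (l.map n).sum ≤ 2 * l.length := by
      intro l h
      have := List.sum_le_card_nsmul (l.map n) 2 (fun x hx => by
        obtain ⟨t, ht, rfl⟩ := List.mem_map.1 hx
        exact h t ht)
      rw [List.length_map, smul_eq_mul] at this
      omega
    rw [List.map_cons, List.sum_cons, List.length_cons]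
    rcases List.mem_cons.1 ht0 with rfl | ht
    · have := hl (l := l) fun s hs => hle s (List.mem_cons_of_mem _ hs)
      omega
    · have := sum_le_lines l n (fun s hs => hle s (List.mem_cons_of_mem _ hs)) t0 ht h0
      have := hle t List.mem_cons_self
      omega

theorem length_filter_three (f : Fin 112 → Bool) (a b c : Fin 112) :
    ([a, b, c].filter fun i => f i).length = (f a).toNat + (f b).toNat + (f c).toNat := by
  cases hA : f a <;> cases hB : f b <;> cases hC : f c <;> simp [List.filter, hA, hB, hC]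

/-- Every line meets the set of common neighbours of `a` and a distant point in two points. -/
theorem two_on_lines (S : Fin 112 → Bool) (hcard : (Finset.univ.filter fun i => S i = true).card = 56)
    (hone : ∀ p q r s, IsQuad p q r s → S p = true → (S q).toNat + (S r).toNat + (S s).toNat = 1)
    (hten : ∀ p, S p = true → (Finset.univ.filter fun i => Alj p i ∧ S i = true).card = 10)
    {p q r s : Fin 112} (h : IsQuad p q r s) :
    (S p).toNat + (S q).toNat + (S r).toNat + (S s).toNat = 2 := by
  by_cases hp : S p = true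
  · have := hone p q r s h hp
    rw [hp, Bool.toNat_true]
    omega
  by_cases hq : S q = true
  · have := hone q r s p h.rot hq
    rw [hq, Bool.toNat_true]
    omega
  by_cases hr : S r = true
  · have := hone r s p q h.rot.rot hr
    rw [hr, Bool.toNat_true]
    omega
  by_cases hs : S s = true
  · have := hone s p q r h.rot.rot.rot hs
    rw [hs, Bool.toNat_true]
    omega
  exfalso
  have hle : ∀ x y z w : Fin 112, IsQuad x y z w → ¬ S x = true →
      (S y).toNat + (S z).toNat + (S w).toNat ≤ 2 := by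
    intro x y z w h hx
    rw [Bool.not_eq_true] at hx
    by_cases hy : S y = true
    · have := hone y z w x h.rot hy
      rw [hx, Bool.toNat_false] at this
      rw [hy, Bool.toNat_true]
      omega
    · rw [Bool.not_eq_true] at hy
      rw [hy, Bool.toNat_false]
      have := Bool.toNat_le (S z)
      have := Bool.toNat_le (S w)
      omega
  let N : Fin 112 → ℕ := fun x => (Finset.univ.filter fun i => Alj x i ∧ S i = true).card
  have hbound : ∀ x, ¬ S x = true → ∀ y z w, IsQuad x y z w →
      N x + (if S y = false ∧ S z = false ∧ S w = false then 2 else 0) ≤ 20 := by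
    intro x hx y z w hxy
    obtain ⟨l, hlen, hquad, hcov⟩ := exists_lines x
    let n : Fin 112 × Fin 112 × Fin 112 → ℕ := fun t => (S t.1).toNat + (S t.2.1).toNat + (S t.2.2).toNat
    let F : Fin 112 × Fin 112 × Fin 112 → List (Fin 112) := fun t => [t.1, t.2.1, t.2.2].filter fun i => S i
    have hN : N x ≤ (l.map n).sum := by
      have hsub : (Finset.univ.filter fun i => Alj x i ∧ S i = true) ⊆ (l.flatMap F).toFinset := by
        intro i hi
        simp only [Finset.mem_filter, Finset.mem_univ, true_and] at hi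
        obtain ⟨t, ht, e⟩ := hcov i hi.1
        simp only [List.mem_toFinset, List.mem_flatMap, F, List.mem_filter, List.mem_cons, List.not_mem_nil,
          or_false]
        exact ⟨t, ht, e, hi.2⟩
      refine (Finset.card_le_card hsub).trans ((List.toFinset_card_le _).trans (le_of_eq ?_))
      rw [List.length_flatMap]
      congr 1
      refine List.map_congr_left fun t _ => ?_
      exact length_filter_three S _ _ _
    have hn2 : ∀ t ∈ l, n t ≤ 2 := fun t ht => hle x _ _ _ (hquad t ht) hx
    by_cases hzero : S y = false ∧ S z = false ∧ S w = false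
    · rw [if_pos hzero]
      obtain ⟨t, ht, e⟩ := hcov y hxy.1
      have hq := hquad t ht
      have hin : ∀ {i}, i = t.1 ∨ i = t.2.1 ∨ i = t.2.2 → S i = false := by
        intro i hi
        have hb : i = y ∨ i = z ∨ i = w := by
          have c1 := quad_com hxy i
          by_cases hiy : i = y
          · exact Or.inl hiy
          refine Or.inr (c1.1 ⟨?_, ?_⟩)
          · rcases hi with rfl | rfl | rfl
            · exact hq.1
            · exact hq.2.1
            · exact hq.2.2.1
          · rcases e with rfl | rfl | rfl <;> rcases hi with rfl | rfl | rfl <;>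
              first
                | exact absurd rfl hiy
                | exact hq.2.2.2.1
                | exact hq.2.2.2.2.1
                | exact hq.2.2.2.2.2
                | exact alj_symm hq.2.2.2.1
                | exact alj_symm hq.2.2.2.2.1
                | exact alj_symm hq.2.2.2.2.2
        rcases hb with rfl | rfl | rfl
        · exact hzero.1
        · exact hzero.2.1
        · exact hzero.2.2
      have := sum_le_lines l n hn2 t ht (by
        simp only [n, hin (Or.inl rfl), hin (Or.inr (Or.inl rfl)), hin (Or.inr (Or.inr rfl))]; rfl)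
      omega
    · rw [if_neg hzero]
      have := List.sum_le_card_nsmul (l.map n) 2 (fun x hx => by
        obtain ⟨t, ht, rfl⟩ := List.mem_map.1 hx
        exact hn2 t ht)
      rw [List.length_map, hlen, smul_eq_mul] at this
      omega
  have hsum : ∑ x ∈ Finset.univ.filter (fun i => ¬ S i = true), N x = 56 * 20 := by
    have := Finset.sum_card_bipartiteAbove_eq_sum_card_bipartiteBelow (r := fun x y : Fin 112 => Alj x y)
      (s := Finset.univ.filter fun i => ¬ S i = true) (t := Finset.univ.filter fun i => S i = true)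
    simp only [Finset.bipartiteAbove, Finset.bipartiteBelow] at this
    rw [show (∑ x ∈ Finset.univ.filter (fun i => ¬ S i = true), N x) = _ from Finset.sum_congr rfl fun x _ =>
      congrArg Finset.card (show (Finset.univ.filter fun i => Alj x i ∧ S i = true) =
        Finset.filter (fun y => Alj x y) (Finset.univ.filter fun i => S i = true) by
          rw [Finset.filter_filter]; exact Finset.filter_congr fun i _ => and_comm), this]
    rw [Finset.sum_congr rfl (g := fun _ => 20) fun y hy => ?_, Finset.sum_const, hcard, smul_eq_mul]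
    rw [Finset.filter_filter]
    have h30 := card_alj y
    have hsplit := Finset.card_filter_add_card_filter_not (s := Finset.univ.filter (Alj y)) (fun i => S i = true)
    rw [Finset.filter_filter, Finset.filter_filter, hten y (Finset.mem_filter.1 hy).2, h30] at hsplit
    rw [show (Finset.univ.filter fun i => ¬ S i = true ∧ Alj i y) =
      Finset.univ.filter (fun i => Alj y i ∧ ¬ S i = true) from Finset.filter_congr fun i _ =>
        ⟨fun h => ⟨alj_symm h.2, h.1⟩, fun h => ⟨h.2, alj_symm h.1⟩⟩]
    omega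
  have hpmem : p ∈ Finset.univ.filter (fun i => ¬ S i = true) := by simp [hp]
  have hle20 : ∀ x ∈ Finset.univ.filter (fun i => ¬ S i = true), N x ≤ 20 := by
    intro x hx
    obtain ⟨l, hlen, hquad, -⟩ := exists_lines x
    obtain ⟨t, ht⟩ := List.exists_mem_of_ne_nil l (by intro e; rw [e] at hlen; simp at hlen)
    have := hbound x (Finset.mem_filter.1 hx).2 _ _ _ (hquad t ht)
    omega
  have hlt := Finset.sum_lt_sum hle20 ⟨p, hpmem, by
    have := hbound p hp q r s h
    rw [if_pos ⟨by simpa using hq, by simpa using hr, by simpa using hs⟩] at this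
    omega⟩
  have hc56 : (Finset.univ.filter fun i => ¬ S i = true).card = 56 := by
    have := Finset.card_filter_add_card_filter_not (s := (Finset.univ : Finset (Fin 112))) (fun i => S i = true)
    rw [hcard, Finset.card_univ, Fintype.card_fin] at this
    omega
  rw [hsum, Finset.sum_const, hc56, smul_eq_mul] at hlt
  omega

theorem GraphData.smul_far (d : GraphData G a b c R) (k : MulAction.stabilizer G a) {x : Ω} :
    R c (k • x) ↔ R (k⁻¹ • c) x := by
  rw [← d.inv ((k : G)⁻¹) c]
  show R _ (((k : G)⁻¹ * (k : G)) • x) ↔ _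
  rw [inv_mul_cancel, one_smul]
  rfl

theorem NearLabel.symm_smul (L : NearLabel G a R) (d : GraphData G a b c R) (k : MulAction.stabilizer G a)
    (i : Fin 112) : (L.e.symm (loc (L.θ k) i) : Ω) = k • (L.e.symm i : Ω) := by
  have hm := d.smul_near k (L.e.symm i).2
  have := L.equiv k (L.e.symm i) hm
  rw [Equiv.apply_symm_apply] at this
  rw [← this, Equiv.symm_apply_apply]

/-- A labelling in which `c` has the neighbours of the first distant point of the model. -/
theorem exists_standard [IsSimpleGroup U] [MulAction.IsPretransitive G Ω] (d : GraphData G a b c R)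
    (hc : (MulAction.orbit (MulAction.stabilizer G a) c).ncard = 162) (L : NearLabel G a R) :
    ∃ L' : NearLabel G a R, ∀ i, R c (L'.e.symm i : Ω) ↔ Mu 0 i := by
  obtain ⟨hadj, hμ⟩ := L.adjacency d
  let S := setOf' L c
  have hS : ∀ i, S i = true ↔ R c (L.e.symm i : Ω) := fun i => decide_eq_true_iff
  have hcard : (Finset.univ.filter fun i => S i = true).card = 56 := by
    rw [← hμ]
    refine Finset.card_bij (fun i _ => (L.e.symm i : Ω)) (fun i hi => ?_) (fun i _ j _ e => ?_) (fun z hz => ?_)
    · simp only [Finset.mem_filter, Finset.mem_univ, true_and] at hi ⊢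
      exact ⟨(L.e.symm i).2, (hS i).1 hi⟩
    · exact L.e.symm.injective (Subtype.ext e)
    · simp only [Finset.mem_filter, Finset.mem_univ, true_and] at hz
      refine ⟨L.e ⟨z, hz.1⟩, ?_, by rw [Equiv.symm_apply_apply]⟩
      simp only [Finset.mem_filter, Finset.mem_univ, true_and, hS, Equiv.symm_apply_apply]
      exact hz.2
  have hten : ∀ p, S p = true → (Finset.univ.filter fun i => Alj p i ∧ S i = true).card = 10 := by
    intro p hp
    rw [hS] at hp
    obtain ⟨g, hg⟩ := MulAction.exists_smul_eq G a (L.e.symm p : Ω)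
    have hpull : ∀ {x : Ω}, R (L.e.symm p : Ω) x → R a (g⁻¹ • x) := fun hx => by
      rw [← d.inv g, hg, smul_inv_smul]; exact hx
    let ta : {y // R a y} := ⟨g⁻¹ • a, hpull (d.symm (L.e.symm p).2)⟩
    let tc : {y // R a y} := ⟨g⁻¹ • c, hpull (d.symm hp)⟩
    have hna : ¬ Alj (L.e ta) (L.e tc) := by
      rw [← hadj, d.inv]; exact d.nac
    have hne : L.e ta ≠ L.e tc := fun e =>
      d.ac (MulAction.injective _ (congrArg Subtype.val (L.e.injective e)))
    rw [← card_away_com hna hne]
    have hR : ∀ {i}, Alj p i → R (L.e.symm p : Ω) (L.e.symm i : Ω) := fun h => by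
      rw [hadj, Equiv.apply_symm_apply, Equiv.apply_symm_apply]; exact h
    refine Finset.card_bij (fun i hi => L.e ⟨g⁻¹ • (L.e.symm i : Ω), hpull (hR (Finset.mem_filter.1 hi).2.1)⟩)
      (fun i hi => ?_) (fun i _ j _ e => ?_) (fun j hj => ?_)
    · simp only [Finset.mem_filter, Finset.mem_univ, true_and] at hi ⊢
      rw [← hadj, ← hadj, d.inv, d.inv]
      exact ⟨(L.e.symm i).2, (hS i).1 hi.2⟩
    · have := congrArg Subtype.val (L.e.injective e)
      exact L.e.symm.injective (Subtype.ext (MulAction.injective _ this))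
    · simp only [Finset.mem_filter, Finset.mem_univ, true_and] at hj
      have hja : R a (g • (L.e.symm j : Ω)) := by
        have := hj.1
        rw [← Equiv.apply_symm_apply L.e j, ← hadj, ← d.inv g] at this
        rwa [smul_inv_smul] at this
      have hjc : R c (g • (L.e.symm j : Ω)) := by
        have := hj.2
        rw [← Equiv.apply_symm_apply L.e j, ← hadj, ← d.inv g] at this
        rwa [smul_inv_smul] at this
      have hjp : R (L.e.symm p : Ω) (g • (L.e.symm j : Ω)) := by
        rw [← hg, d.inv]; exact (L.e.symm j).2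
      refine ⟨L.e ⟨g • (L.e.symm j : Ω), hja⟩, ?_, ?_⟩
      · simp only [Finset.mem_filter, Finset.mem_univ, true_and, hS, Equiv.symm_apply_apply]
        refine ⟨?_, hjc⟩
        rw [← Equiv.apply_symm_apply L.e p, ← hadj]
        exact hjp
      · simp only [Equiv.symm_apply_apply, inv_smul_smul]
        exact L.e.apply_symm_apply j
  have hline : ∀ p q r s, IsQuad p q r s → (S p).toNat + (S q).toNat + (S r).toNat + (S s).toNat = 2 :=
    fun p q r s h => two_on_lines S hcard (fun p q r s h hp => setOf'_line L d h hp) hten h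
  -- an element of order 7 fixing `c`
  have h7 : Fact (Nat.Prime 7) := ⟨by norm_num⟩
  have hKc : Nat.card (MulAction.stabilizer (MulAction.stabilizer G a) c) = 20160 := by
    have h := (MulAction.stabilizer (MulAction.stabilizer G a) c).card_mul_index
    rw [MulAction.index_stabilizer, hc, Nat.card_congr L.θ.toEquiv, card_U] at h
    omega
  obtain ⟨k, hk⟩ := exists_prime_orderOf_dvd_card' (G := MulAction.stabilizer (MulAction.stabilizer G a) c) 7
    (by rw [hKc]; norm_num)
  have hkinv : ∀ n : ℕ, ∀ i, S (loc (L.θ (k : MulAction.stabilizer G a) ^ n) i) = S i := by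
    intro n i
    refine Bool.eq_iff_iff.2 ?_
    rw [hS, hS, ← map_pow, L.symm_smul d, d.smul_far]
    rw [show ((k : MulAction.stabilizer G a) ^ n)⁻¹ • c = c from ((k ^ n)⁻¹).2]
  have hfact : (Nat.card U).factorization 7 = 1 := by
    rw [card_U]
    refine le_antisymm ?_ ((Nat.Prime.pow_dvd_iff_le_factorization (by norm_num) (by norm_num)).1 (by norm_num))
    by_contra hgt
    have := (Nat.Prime.pow_dvd_iff_le_factorization (p := 7) (k := 2) (by norm_num)
      (by norm_num : (3265920 : ℕ) ≠ 0)).2 (by omega)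
    norm_num at this
  have ho7 : orderOf seven = 7 := by
    rw [← orderOf_injective loc loc_injective]
    refine orderOf_eq_prime (loc_pow_eq_one seven_lt seven_ok.1) fun e => ?_
    have h := appL_eq seven_lt 0
    rw [show elemU sevenW = seven from rfl, e] at h
    have h2 := seven_ok.2.1
    rw [← Bool.not_eq_true, Nat.beq_eq] at h2
    exact h2 h
  have hox : orderOf (L.θ (k : MulAction.stabilizer G a)) = 7 := by
    rw [MulEquiv.orderOf_eq, ← hk]
    exact orderOf_injective (Subgroup.subtype _) Subtype.coe_injective k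
  let S1 : Sylow 7 U := Sylow.ofCard (Subgroup.zpowers (L.θ (k : MulAction.stabilizer G a)))
    (by rw [hfact, pow_one, Nat.card_zpowers, hox])
  let S2 : Sylow 7 U := Sylow.ofCard (Subgroup.zpowers seven) (by rw [hfact, pow_one, Nat.card_zpowers, ho7])
  obtain ⟨u, hu⟩ := MulAction.exists_smul_eq U S1 S2
  have hmem : seven ∈ ((u • S1 : Sylow 7 U) : Subgroup U) := by
    rw [hu]; exact Subgroup.mem_zpowers _
  rw [Sylow.coe_subgroup_smul] at hmem
  obtain ⟨z, hz, hzeq⟩ := hmem
  have hzx : z ∈ Subgroup.zpowers (L.θ (k : MulAction.stabilizer G a)) := hz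
  have hfin : IsOfFinOrder (L.θ (k : MulAction.stabilizer G a)) := orderOf_pos_iff.1 (by rw [hox]; norm_num)
  obtain ⟨n, hn⟩ := Submonoid.mem_powers_iff _ _ |>.1 (hfin.mem_powers_iff_mem_zpowers.2 hzx)
  let S' : Fin 112 → Bool := fun i => S ((loc u)⁻¹ i)
  have hinv : ∀ i, S' (loc seven i) = S' i := by
    intro i
    show S _ = S _
    rw [← hzeq]
    show S ((loc u)⁻¹ (loc (u * z * u⁻¹) i)) = _
    rw [map_mul, map_mul, map_inv, Equiv.Perm.mul_apply, Equiv.Perm.mul_apply, perm_inv_apply, ← hn, hkinv]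
  obtain ⟨σ, hσ, v, hv⟩ := sets_known S' hinv fun p q r s h =>
    hline _ _ _ _ ((isAut_loc u).inv.quad h)
  obtain ⟨u2, hu2⟩ := trans_far v
  let τ : CfsgLib.Sporadic.McLRank.L := (loc u2)⁻¹ * σ * loc u
  have hτ : IsAut τ := ((isAut_loc u2).inv.mul hσ).mul (isAut_loc u)
  have hτS : ∀ i, S i = true ↔ Mu 0 (τ i) := by
    intro i
    have h1 := hv (loc u i)
    simp only [S', perm_inv_apply] at h1
    rw [h1, ← mu_loc u2 (v := 0) hu2.symm (τ i)]
    simp only [τ, Equiv.Perm.mul_apply, perm_apply_inv]
  have hex : ∀ w : U, ∃ w' : U, loc w' = τ * loc w * τ⁻¹ := fun w => normalizes hτ w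
  choose g hg using hex
  let ψ : U →* U := MonoidHom.mk' g fun x y => loc_injective (by
    rw [map_mul, hg, hg, hg, map_mul]; group)
  have hψ : Function.Bijective ψ := by
    have hinj : Function.Injective ψ := fun x y e => by
      have := congrArg loc e
      simp only [ψ, MonoidHom.mk'_apply, hg, mul_left_inj, mul_right_inj] at this
      exact loc_injective this
    exact Finite.injective_iff_bijective.1 hinj
  let L' : NearLabel G a R :=
    { θ := L.θ.trans (MulEquiv.ofBijective ψ hψ)
      e := L.e.trans τ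
      equiv := fun k y h => by
        show τ (L.e ⟨k • (y : Ω), h⟩) = loc (ψ (L.θ k)) (τ (L.e y))
        rw [L.equiv, show loc (ψ (L.θ k)) = τ * loc (L.θ k) * τ⁻¹ from hg _]
        exact (congrArg (fun z => τ (loc (L.θ k) z)) (perm_inv_apply τ _)).symm }
  refine ⟨L', fun i => ?_⟩
  show R c (L.e.symm (τ.symm i) : Ω) ↔ _
  rw [← hS, hτS, Equiv.apply_symm_apply]

/-- A graph isomorphism onto the model compatible with the point stabilisers. -/
theorem exists_iso [IsSimpleGroup U] [MulAction.IsPretransitive G Ω] (hΩ : Fintype.card Ω = 275)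
    (d : GraphData G a b c R) (hc : (MulAction.orbit (MulAction.stabilizer G a) c).ncard = 162)
    (L0 : NearLabel G a R) :
    ∃ (φ : Ω ≃ Fin 275) (θ : MulAction.stabilizer G a ≃* U),
      (∀ x y, R x y ↔ Adj (φ x) (φ y)) ∧ φ a = 0 ∧
      ∀ (k : MulAction.stabilizer G a) (x : Ω), φ (k • x) = (θ k : P) (φ x) := by
  obtain ⟨L, hL⟩ := exists_standard d hc L0
  obtain ⟨hadj, hμ⟩ := L.adjacency d
  let K := MulAction.stabilizer G a
  have hfarK : ∀ k : K, ∀ i, Mu 0 i ↔ R (k • c) (L.e.symm (loc (L.θ k) i) : Ω) := by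
    intro k i
    rw [← hL i, L.symm_smul d]
    exact (d.inv (k : G) c _).symm
  have hwd : ∀ k k' : K, k • c = k' • c → (L.θ k : P) (far 0) = (L.θ k' : P) (far 0) := by
    intro k k' e
    obtain ⟨v, hv⟩ := U_far (L.θ k) 0
    obtain ⟨w, hw⟩ := U_far (L.θ k') 0
    rw [← hv, ← hw]
    congr 1
    refine mu_injective fun i => ?_
    obtain ⟨j, rfl⟩ := (loc (L.θ k)).surjective i
    rw [mu_loc _ hv, hfarK k]
    obtain ⟨j', hj'⟩ := (loc (L.θ k')).surjective (loc (L.θ k) j)
    rw [← hj', mu_loc _ hw, hfarK k', e]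
  have hfar' : ∀ x : {y // y ≠ a ∧ ¬ R a y}, ∃ k : K, k • c = (x : Ω) := fun x => d.cover _ x.2.1 x.2.2
  choose kk hkk using hfar'
  let φ : Ω → Fin 275 := fun x =>
    if h0 : x = a then 0 else if h : R a x then nb (L.e ⟨x, h⟩) else (L.θ (kk ⟨x, h0, h⟩) : P) (far 0)
  have φa : φ a = 0 := dif_pos rfl
  have φnb : ∀ x (h : R a x), φ x = nb (L.e ⟨x, h⟩) := fun x h => by
    have h0 : x ≠ a := fun e => d.irrefl a (e ▸ h)
    simp only [φ, dif_neg h0, dif_pos h]
  have hkc : ∀ k : K, k • c ≠ a ∧ ¬ R a (k • c) := fun k => by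
    refine ⟨fun e => d.ac (MulAction.injective k ((show k • a = a from k.2).trans e.symm)), fun e => d.nac ?_⟩
    have h2 := d.smul_near k⁻¹ e
    rwa [inv_smul_smul] at h2
  have φfar : ∀ k : K, φ (k • c) = (L.θ k : P) (far 0) := fun k => by
    simp only [φ, dif_neg (hkc k).1, dif_neg (hkc k).2]
    exact hwd _ _ (hkk _)
  have hsurj : Function.Surjective φ := by
    intro z
    by_cases h0 : z = 0
    · exact ⟨a, φa.trans h0.symm⟩
    by_cases h : Adj 0 z
    · obtain ⟨i, rfl⟩ := exists_nb h
      exact ⟨L.e.symm i, by rw [φnb _ (L.e.symm i).2, Equiv.apply_symm_apply]⟩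
    · obtain ⟨v, rfl⟩ := exists_far h0 h
      obtain ⟨u, hu⟩ := trans_far v
      obtain ⟨k, rfl⟩ := L.θ.surjective u
      exact ⟨k • c, (φfar k).trans hu⟩
  have hbij : Function.Bijective φ := (Fintype.bijective_iff_surjective_and_card φ).2
    ⟨hsurj, by rw [hΩ, Fintype.card_fin]⟩
  let e : Ω ≃ Fin 275 := Equiv.ofBijective φ hbij
  have hequiv : ∀ (k : K) (x : Ω), φ (k • x) = (L.θ k : P) (φ x) := by
    intro k x
    by_cases h0 : x = a
    · rw [h0, show k • a = a from k.2, φa, U_fix]
    by_cases h : R a x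
    · rw [φnb _ (d.smul_near k h), φnb _ h, L.equiv k ⟨x, h⟩, nb_loc]
    · obtain ⟨l, rfl⟩ : ∃ l : K, l • c = x := ⟨kk ⟨x, h0, h⟩, hkk _⟩
      rw [← mul_smul, φfar, φfar, map_mul, Subgroup.coe_mul, Equiv.Perm.mul_apply]
  have φc : φ c = far 0 := by
    have := φfar 1
    rwa [one_smul, map_one, Subgroup.coe_one, Equiv.Perm.one_apply] at this
  have hsymmA : ∀ x y, Adj x y ↔ Adj y x := fun x y => ⟨adj_symm, adj_symm⟩
  have hbase : ∀ y, R a y ↔ Adj (φ a) (φ y) := by
    intro y
    rw [φa]
    by_cases h0 : y = a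
    · rw [h0, φa]; exact iff_of_false (d.irrefl a) (adj_irrefl 0)
    by_cases h : R a y
    · rw [φnb y h]; exact iff_of_true h (adj_nb _)
    · obtain ⟨l, rfl⟩ : ∃ l : K, l • c = y := ⟨kk ⟨y, h0, h⟩, hkk _⟩
      refine iff_of_false h ?_
      rw [φfar]
      obtain ⟨w, hw⟩ := U_far (L.θ l) 0
      rw [← hw]; exact not_adj_far w
  have hmid : ∀ y, R a y → (R c y ↔ Adj (φ c) (φ y)) := by
    intro y h
    have := hL (L.e ⟨y, h⟩)
    rw [Equiv.symm_apply_apply] at this
    rw [this, φc, φnb y h, mu_iff]
  have hfc : ∀ y, y ≠ a → ¬ R a y → (R c y ↔ Adj (φ c) (φ y)) := by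
    let W : Fin 162 → Prop := fun v => R c (e.symm (far v))
    have hW : ∀ {v w}, v ≠ 0 → w ≠ 0 → (Adj (far 0) (far v) ↔ Adj (far 0) (far w)) → W v → W w := by
      intro v w hv hw h hWv
      obtain ⟨u, hu, hu'⟩ := trans_far_fix hv hw h
      obtain ⟨k, rfl⟩ := L.θ.surjective u
      have hkc' : k • c = c := hbij.injective (by
        rw [hequiv, φc]; exact hu)
      have he : k • e.symm (far v) = e.symm (far w) := by
        refine hbij.injective ?_
        rw [hequiv]
        show (L.θ k : P) (e (e.symm (far v))) = e (e.symm (far w))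
        rw [Equiv.apply_symm_apply, Equiv.apply_symm_apply, hu']
      show R c (e.symm (far w))
      rw [← he, ← hkc']
      exact (d.inv (k : G) _ _).2 hWv
    have hW0 : ¬ W 0 := by
      intro h
      have : e.symm (far 0) = c := by rw [Equiv.symm_apply_eq]; exact φc.symm
      exact d.irrefl c (by rwa [show W 0 = R c (e.symm (far 0)) from rfl, this] at h)
    have hWcard : (Finset.univ.filter W).card = 56 := by
      have hsplit := Finset.card_filter_add_card_filter_not (s := Finset.univ.filter (R c)) (fun z => R a z)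
      rw [Finset.filter_filter, Finset.filter_filter, d.degree c,
        show (Finset.univ.filter fun z => R c z ∧ R a z) = Finset.univ.filter fun z => R a z ∧ R c z from
          Finset.filter_congr fun z _ => and_comm, hμ] at hsplit
      have h2 : (Finset.univ.filter W).card = (Finset.univ.filter fun z => R c z ∧ ¬ R a z).card := by
        refine Finset.card_bij (fun v _ => e.symm (far v)) (fun v hv => ?_) (fun v _ w _ he => ?_) (fun z hz => ?_)
        · simp only [Finset.mem_filter, Finset.mem_univ, true_and] at hv ⊢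
          refine ⟨hv, fun h => ?_⟩
          rw [hbase, φa] at h
          rw [show φ (e.symm (far v)) = far v from e.apply_symm_apply _] at h
          exact not_adj_far v h
        · exact far_injective (e.symm.injective he)
        · simp only [Finset.mem_filter, Finset.mem_univ, true_and] at hz
          have hza : z ≠ a := fun he => d.nac (d.symm (he ▸ hz.1))
          obtain ⟨v, hv⟩ := exists_far (x := φ z) (fun he => hza (hbij.injective (he.trans φa.symm)))
            (fun he => hz.2 ((hbase z).2 (by rw [φa]; exact he)))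
          have hvz : e.symm (far v) = z := by rw [Equiv.symm_apply_eq]; exact hv
          exact ⟨v, by simp only [Finset.mem_filter, Finset.mem_univ, true_and, W, hvz]; exact hz.1, hvz⟩
      omega
    have hnear : ∀ v, W v ↔ Adj (far 0) (far v) := by
      have hsub : ∀ v, W v → Adj (far 0) (far v) := by
        intro v hv
        by_contra hn
        have hv0 : v ≠ 0 := fun e => hW0 (e ▸ hv)
        have hle : (Finset.univ.filter fun w : Fin 162 => ¬ Adj (far 0) (far w) ∧ w ≠ 0).card ≤
            (Finset.univ.filter W).card := by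
          refine Finset.card_le_card fun w hw => ?_
          simp only [Finset.mem_filter, Finset.mem_univ, true_and] at hw ⊢
          exact hW hv0 hw.2 (iff_of_false hn hw.1) hv
        rw [card_far_away, hWcard] at hle
        omega
      intro v
      have heq := Finset.eq_of_subset_of_card_le (s := Finset.univ.filter W)
        (t := Finset.univ.filter fun v => Adj (far 0) (far v))
        (fun w hw => by
          simp only [Finset.mem_filter, Finset.mem_univ, true_and] at hw ⊢; exact hsub w hw)
        (by rw [card_far_near, hWcard])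
      have := Finset.ext_iff.1 heq v
      simpa using this
    intro y h0 h
    obtain ⟨v, hv⟩ := exists_far (x := φ y) (fun he => h0 (hbij.injective (he.trans φa.symm)))
      (fun he => h ((hbase y).2 (by rw [φa]; exact he)))
    have hvy : e.symm (far v) = y := by rw [Equiv.symm_apply_eq]; exact hv
    rw [φc, ← hv, ← hnear]
    show R c y ↔ R c (e.symm (far v))
    rw [hvy]
  refine ⟨e, L.θ, fun x y => ?_, φa, hequiv⟩
  show R x y ↔ Adj (φ x) (φ y)
  by_cases hx0 : x = a
  · rw [hx0]; exact hbase y
  by_cases hx : R a x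
  · by_cases hy0 : y = a
    · rw [hy0, hsymmA]; exact ⟨fun h => (hbase x).1 (d.symm h), fun h => d.symm ((hbase x).2 h)⟩
    by_cases hy : R a y
    · rw [φnb x hx, φnb y hy, ← alj_iff]; exact hadj ⟨x, hx⟩ ⟨y, hy⟩
    · obtain ⟨l, rfl⟩ : ∃ l : K, l • c = y := ⟨kk ⟨y, hy0, hy⟩, hkk _⟩
      obtain ⟨x', rfl⟩ : ∃ x', l • x' = x := ⟨_, smul_inv_smul l x⟩
      have hx' : R a x' := by
        have := d.smul_near l⁻¹ hx
        rwa [inv_smul_smul] at this
      rw [show R (l • x') (l • c) ↔ R x' c from d.inv (l : G) _ _, hequiv, hequiv, U_adj, hsymmA]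
      exact ⟨fun h => (hmid x' hx').1 (d.symm h), fun h => d.symm ((hmid x' hx').2 h)⟩
  · obtain ⟨l, rfl⟩ : ∃ l : K, l • c = x := ⟨kk ⟨x, hx0, hx⟩, hkk _⟩
    obtain ⟨y', rfl⟩ : ∃ y', l • y' = y := ⟨_, smul_inv_smul l y⟩
    rw [show R (l • c) (l • y') ↔ R c y' from d.inv (l : G) _ _, hequiv, hequiv, U_adj]
    by_cases hy0 : y' = a
    · rw [hy0, hsymmA]; exact ⟨fun h => (hbase c).1 (d.symm h), fun h => d.symm ((hbase c).2 h)⟩
    by_cases hy : R a y'
    · exact hmid y' hy
    · exact hfc y' hy0 hy

/-- Recognition of the McLaughlin group in its action of degree 275. -/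
theorem recognize (hΩ : Fintype.card Ω = 275) (G : Subgroup (Equiv.Perm Ω))
    [MulAction.IsPretransitive G Ω] (a : Ω) (K : Type) [Field K] [Fintype K] (hK : Fintype.card K = 9)
    (e : MulAction.stabilizer G a ≃* Cfsg.PSU 4 K 3) (b c : Ω)
    (hb : (MulAction.orbit (MulAction.stabilizer G a) b).ncard = 112)
    (hc : (MulAction.orbit (MulAction.stabilizer G a) c).ncard = 162) : Cfsg.Spor.IsoMcL G := by
  obtain ⟨i⟩ := U_iso K hK
  haveI hsimp : IsSimpleGroup (Cfsg.PSU 4 K 3) := Cfsg.Agent.S0283.result hK 4 (by norm_num) (by norm_num)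
  haveI : IsSimpleGroup U := i.isSimpleGroup
  have d := graphData hΩ G a b c hb hc
  obtain ⟨L0⟩ := exists_nearLabel d (e.trans i.symm) hb
  obtain ⟨φ, θ, hφ, φa, hequiv⟩ := exists_iso hΩ d hc L0
  let ι : G →* P := φ.permCongrHom.toMonoidHom.comp G.subtype
  have hι : Function.Injective ι := φ.permCongrHom.injective.comp Subtype.val_injective
  have hιφ : ∀ (g : G) (x : Ω), ι g (φ x) = φ (g • x) := fun g x => by
    show φ ((g : Equiv.Perm Ω) (φ.symm (φ x))) = φ (g • x)
    rw [φ.symm_apply_apply]; rfl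
  let G' := ι.range
  have hG'aut : ∀ g ∈ G', IsGraphAut g := by
    rintro _ ⟨g, rfl⟩ x y
    obtain ⟨x, rfl⟩ := φ.surjective x
    obtain ⟨y, rfl⟩ := φ.surjective y
    rw [hιφ, hιφ, ← hφ, ← hφ]
    exact d.inv g x y
  have hU : U ≤ G' := by
    intro u hu
    obtain ⟨k, hk⟩ := θ.surjective ⟨u, hu⟩
    refine ⟨(k : G), Equiv.ext fun z => ?_⟩
    obtain ⟨x, rfl⟩ := φ.surjective z
    rw [hιφ]
    exact (hequiv k x).trans (by rw [hk])
  obtain ⟨h, hh, hh0⟩ := McL.reach (nb 0)
  obtain ⟨g, hg0⟩ : ∃ g ∈ G', g 0 = nb 0 := by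
    obtain ⟨x, hx⟩ := φ.surjective (nb 0)
    obtain ⟨g, hg⟩ := MulAction.exists_smul_eq G a x
    exact ⟨ι g, ⟨g, rfl⟩, by rw [← φa, hιφ, hg, hx]⟩
  have hH : ∀ x ∈ McL.H, IsGraphAut x := fun x hx => adj_H hx
  let m := h⁻¹ * g
  have hm : IsGraphAut m := (hH h hh).inv.mul (hG'aut g hg0.1)
  have hm0 : m 0 = 0 := by
    show h⁻¹ (g 0) = 0
    rw [hg0.2, ← hh0, perm_inv_apply]
  obtain ⟨σ, hσ, hσm⟩ := exists_local hm hm0
  have hconjU : ∀ u : U, h * (u : P) * h⁻¹ ∈ G' := by
    intro u
    obtain ⟨u', hu'⟩ := normalizes hσ.inv u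
    have hkey : m * (u' : P) * m⁻¹ = (u : P) := by
      refine eq_of_local ((hm.mul (U_aut u')).mul hm.inv) (U_aut u) ?_ (U_fix u) fun i => ?_
      · rw [Equiv.Perm.mul_apply, Equiv.Perm.mul_apply, Equiv.Perm.inv_eq_iff_eq.2 hm0.symm, U_fix, hm0]
      · obtain ⟨j, rfl⟩ := σ.surjective i
        rw [Equiv.Perm.mul_apply, Equiv.Perm.mul_apply, hσm, perm_inv_apply, ← nb_loc, ← hσm, hu',
          Equiv.Perm.mul_apply, Equiv.Perm.mul_apply, inv_inv, perm_apply_inv, nb_loc, hσm]
    rw [← hkey, show h * (m * (u' : P) * m⁻¹) * h⁻¹ = g * (u' : P) * g⁻¹ by simp only [m]; group]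
    exact mul_mem (mul_mem hg0.1 (hU u'.2)) (inv_mem hg0.1)
  let M : Subgroup P := G' ⊓ McL.H
  have hUM : U ≤ M := le_inf hU inf_le_left
  have hconjM : ∀ u : U, h * (u : P) * h⁻¹ ∈ M := fun u =>
    Subgroup.mem_inf.2 ⟨hconjU u, mul_mem (mul_mem hh (Subgroup.mem_inf.1 u.2).1) (inv_mem hh)⟩
  have hstab : Nat.card (MulAction.stabilizer M (0 : Fin 275)) = Nat.card U := by
    refine Nat.card_congr
      { toFun := fun x => ⟨((x : M) : P), Subgroup.mem_inf.2 ⟨(Subgroup.mem_inf.1 (x : M).2).2, x.2⟩⟩
        invFun := fun u => ⟨⟨u, hUM u.2⟩, (Subgroup.mem_inf.1 u.2).2⟩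
        left_inv := fun _ => rfl
        right_inv := fun _ => rfl }
  have hcm := (MulAction.stabilizer M (0 : Fin 275)).card_mul_index
  rw [MulAction.index_stabilizer, hstab] at hcm
  have hMle := Subgroup.card_dvd_of_le (inf_le_right : M ≤ McL.H)
  rw [McL.H_spec.2, ← hcm, card_U, show (898128000 : ℕ) = 3265920 * 275 by norm_num] at hMle
  have hdvd : (MulAction.orbit M (0 : Fin 275)).ncard ∣ 275 := (Nat.mul_dvd_mul_iff_left (by norm_num)).1 hMle
  have hmove : ∃ z, z ≠ 0 ∧ z ∈ MulAction.orbit M (0 : Fin 275) := by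
    by_contra hcon
    have hfix : ∀ x ∈ M, x (0 : Fin 275) = 0 := fun x hx => by
      by_contra hne
      exact hcon ⟨_, hne, ⟨⟨x, hx⟩, rfl⟩⟩
    have hU0 : ∀ u : U, (u : P) (h⁻¹ 0) = h⁻¹ 0 := by
      intro u
      have := congrArg (fun z => h⁻¹ z) (hfix _ (hconjM u))
      simp only [Equiv.Perm.mul_apply, perm_inv_apply] at this
      exact this
    obtain ⟨z, hz⟩ : ∃ z, h⁻¹ 0 = z := ⟨_, rfl⟩
    rw [hz] at hU0
    by_cases hz0 : z = 0
    · rw [hz0, Equiv.Perm.inv_eq_iff_eq, hh0] at hz
      exact adj_irrefl (0 : Fin 275) (by nth_rewrite 2 [hz]; exact adj_nb 0)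
    by_cases hzA : Adj 0 z
    · obtain ⟨j, rfl⟩ := exists_nb hzA
      obtain ⟨u, hu⟩ := trans_all j
      have h1 : loc u⁻¹ j = j := nb_injective (by rw [nb_loc]; exact hU0 _)
      rw [map_inv, Equiv.Perm.inv_eq_iff_eq] at h1
      have hj : j = 0 := (loc u).injective (h1.symm.trans hu.symm)
      obtain ⟨u', hu'⟩ := trans_all 1
      have h2 : loc u' j = j := nb_injective (by rw [nb_loc]; exact hU0 _)
      rw [hj, hu'] at h2
      exact absurd h2 (by decide)
    · obtain ⟨v, rfl⟩ := exists_far hz0 hzA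
      obtain ⟨u, hu⟩ := trans_far v
      obtain ⟨u', hu'⟩ := trans_far (if v = 0 then 1 else 0)
      have h2 := hU0 (u' * u⁻¹)
      rw [Subgroup.coe_mul, InvMemClass.coe_inv, Equiv.Perm.mul_apply,
        Equiv.Perm.inv_eq_iff_eq.2 hu.symm, hu'] at h2
      have := far_injective h2
      split at this <;> simp_all
  have horb : (MulAction.orbit M (0 : Fin 275)).ncard = 275 := by
    obtain ⟨z, hz, hzo⟩ := hmove
    have hclosed : ∀ u : U, (u : P) z ∈ MulAction.orbit M (0 : Fin 275) := fun u => by
      obtain ⟨x, hx⟩ := hzo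
      exact ⟨⟨u, hUM u.2⟩ * x, by rw [← hx]; rfl⟩
    have h0 : (0 : Fin 275) ∈ MulAction.orbit M (0 : Fin 275) := MulAction.mem_orbit_self _
    have h113 : 113 ≤ (MulAction.orbit M (0 : Fin 275)).ncard := by
      by_cases hzA : Adj 0 z
      · obtain ⟨j, rfl⟩ := exists_nb hzA
        have hsub : insert (0 : Fin 275) (Set.range nb) ⊆ MulAction.orbit M (0 : Fin 275) := by
          refine Set.insert_subset h0 ?_
          rintro _ ⟨i, rfl⟩
          obtain ⟨u, hu⟩ := trans_all j
          obtain ⟨u', hu'⟩ := trans_all i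
          have := hclosed (u' * u⁻¹)
          rwa [← nb_loc, map_mul, map_inv, Equiv.Perm.mul_apply, Equiv.Perm.inv_eq_iff_eq.2 hu.symm, hu'] at this
        refine le_trans (le_of_eq ?_) (Set.ncard_le_ncard hsub (Set.toFinite _))
        rw [Set.ncard_insert_of_notMem (by rintro ⟨i, hi⟩; exact adj_irrefl _ (hi ▸ adj_nb i)),
          Set.ncard_range_of_injective nb_injective, Nat.card_fin]
      · obtain ⟨v, rfl⟩ := exists_far hz hzA
        have hsub : insert (0 : Fin 275) (Set.range far) ⊆ MulAction.orbit M (0 : Fin 275) := by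
          refine Set.insert_subset h0 ?_
          rintro _ ⟨i, rfl⟩
          obtain ⟨u, hu⟩ := trans_far v
          obtain ⟨u', hu'⟩ := trans_far i
          have := hclosed (u' * u⁻¹)
          rwa [Subgroup.coe_mul, InvMemClass.coe_inv, Equiv.Perm.mul_apply,
            Equiv.Perm.inv_eq_iff_eq.2 hu.symm, hu'] at this
        refine le_trans ?_ (Set.ncard_le_ncard hsub (Set.toFinite _))
        rw [Set.ncard_insert_of_notMem (by rintro ⟨i, hi⟩; exact far_ne i hi),
          Set.ncard_range_of_injective far_injective, Nat.card_fin]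
        norm_num
    have hmem : (MulAction.orbit M (0 : Fin 275)).ncard ∈ Nat.divisors 275 := Nat.mem_divisors.2 ⟨hdvd, by norm_num⟩
    rw [show Nat.divisors 275 = {1, 5, 11, 25, 55, 275} from by decide +kernel] at hmem
    simp only [Finset.mem_insert, Finset.mem_singleton] at hmem
    omega
  have hMeq : M = McL.H := Subgroup.eq_of_le_of_card_ge inf_le_right (by
    rw [McL.H_spec.2, ← hcm, horb, card_U])
  have hGcard : Nat.card G' = 898128000 := by
    rw [← Nat.card_congr (MonoidHom.ofInjective hι).toEquiv,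
      ← (MulAction.stabilizer G a).card_mul_index, MulAction.index_stabilizer_of_transitive,
      Nat.card_congr θ.toEquiv, card_U, Nat.card_eq_fintype_card, hΩ]
  have hfinal : McL.H = G' := Subgroup.eq_of_le_of_card_ge (hMeq ▸ inf_le_left) (by
    rw [hGcard, McL.H_spec.2])
  obtain ⟨j⟩ := McL.H_spec.1
  exact ⟨((MonoidHom.ofInjective hι).trans (MulEquiv.subgroupCongr hfinal.symm)).trans j.symm⟩

end CfsgLib.Sporadic.McLRank
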