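import Cfsg.Agent.Lib.Sporadic.McLRank.Counts

/-!
A subgroup of index 112 of the point stabiliser fixes one of the 112 neighbours.
-/

set_option autoImplicit false
set_option maxRecDepth 10000

namespace CfsgLib.Sporadic.McLRank

open CfsgLib.Sporadic.OutCert

attribute [local irreducible] lk pkF allF compK iterK alK muK lineTab genL optTab cycK

/-- The action of the point stabiliser on the neighbours. -/
noncomputable local instance nbAction : MulAction U (Fin 112) := MulAction.compHom _ loc

theorem smul_nb (u : U) (i : Fin 112) : u • i = loc u i := rfl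

local instance : MulAction.IsPretransitive U (Fin 112) :=
  ⟨fun i j => by
    obtain ⟨u, hu⟩ := trans_all i
    obtain ⟨w, hw⟩ := trans_all j
    refine ⟨w * u⁻¹, ?_⟩
    rw [smul_nb, map_mul, map_inv, Equiv.Perm.mul_apply, Equiv.Perm.inv_eq_iff_eq.2 hu.symm, hw]⟩

theorem card_point (p : Fin 112) : Nat.card (MulAction.stabilizer U p) = 29160 := by
  have h := (MulAction.stabilizer U p).card_mul_index
  rw [MulAction.index_stabilizer_of_transitive, Nat.card_fin, card_U] at h
  omega

theorem card_two {p x : Fin 112} (hne : x ≠ p) :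
    (Alj p x → Nat.card ↥(MulAction.stabilizer U p ⊓ MulAction.stabilizer U x) = 972) ∧
      (¬ Alj p x → Nat.card ↥(MulAction.stabilizer U p ⊓ MulAction.stabilizer U x) = 360) := by
  classical
  let S := MulAction.stabilizer U p
  have key : Nat.card ↥(MulAction.stabilizer U p ⊓ MulAction.stabilizer U x) * (MulAction.orbit S x).ncard = 29160 := by
    rw [← card_point p, ← (MulAction.stabilizer S x).card_mul_index, MulAction.index_stabilizer]
    congr 1
    refine (Nat.card_congr
      { toFun := fun g => ⟨((g : S) : U), Subgroup.mem_inf.2 ⟨(g : S).2, g.2⟩⟩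
        invFun := fun g => ⟨⟨g, (Subgroup.mem_inf.1 g.2).1⟩, (Subgroup.mem_inf.1 g.2).2⟩
        left_inv := fun _ => rfl
        right_inv := fun _ => rfl }).symm
  constructor <;> intro h
  · have ho : MulAction.orbit S x = ↑(Finset.univ.filter (Alj p)) := by
      ext y
      simp only [Finset.coe_filter, Finset.mem_univ, true_and, Set.mem_ofPred_eq]
      constructor
      · rintro ⟨g, rfl⟩
        have := (isAut_loc (g : U) p x).2 h
        rwa [show loc (g : U) p = p from g.2] at this
      · intro hy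
        obtain ⟨u, hu, hu'⟩ := trans_edge h hy
        exact ⟨⟨u, hu⟩, hu'⟩
    rw [ho, Set.ncard_coe_finset, card_alj] at key
    omega
  · have ho : MulAction.orbit S x = ↑(Finset.univ.filter fun i => ¬ Alj p i ∧ i ≠ p) := by
      ext y
      simp only [Finset.coe_filter, Finset.mem_univ, true_and, Set.mem_ofPred_eq]
      constructor
      · rintro ⟨g, rfl⟩
        have hg : loc (g : U) p = p := g.2
        refine ⟨fun e => h ((isAut_loc (g : U) p x).1 (by rw [hg]; exact e)), fun e => hne ?_⟩
        exact (loc (g : U)).injective (show loc (g : U) x = loc (g : U) p by rw [hg]; exact e)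
      · intro hy
        obtain ⟨u, hu, hu'⟩ := trans_apart h (Ne.symm hne) hy.1 (Ne.symm hy.2)
        exact ⟨⟨u, hu⟩, hu'⟩
    rw [ho, Set.ncard_coe_finset, card_away] at key
    omega

theorem card_five : Nat.card (Subgroup.zpowers (elemU fiveW)) = 5 := by
  have : Fact (Nat.Prime 5) := ⟨by norm_num⟩
  rw [Nat.card_zpowers, ← orderOf_injective loc loc_injective]
  refine orderOf_eq_prime (loc_pow_eq_one five_lt five_ok.1) fun e => ?_
  have h := five_ok.2
  rw [← card_filter_range (p := fun i : Fin 112 => loc (elemU fiveW) i = i) fun i => by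
    rw [Nat.beq_eq, appL_eq five_lt, Fin.ext_iff], e] at h
  simp at h

/-- A subgroup of index 112 is the stabiliser of a point. -/
theorem eq_stabilizer (H : Subgroup U) (hH : Nat.card H = 29160) :
    ∃ p : Fin 112, H = MulAction.stabilizer U p := by
  classical
  have h3 : Fact (Nat.Prime 3) := ⟨by norm_num⟩
  have h5 : Fact (Nat.Prime 5) := ⟨by norm_num⟩
  suffices hfix : ∃ p : Fin 112, H ≤ MulAction.stabilizer U p by
    obtain ⟨p, hp⟩ := hfix
    exact ⟨p, Subgroup.eq_of_le_of_card_ge hp (by rw [hH, card_point])⟩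
  obtain ⟨P, hP⟩ := Sylow.exists_subgroup_card_pow_prime 3 (n := 6) (G := H) (by rw [hH]; norm_num)
  let P' : Subgroup U := P.map H.subtype
  have hP' : Nat.card P' = 729 := by
    rw [Nat.card_congr (P.equivMapOfInjective _ H.subtype_injective).symm.toEquiv, hP]; norm_num
  have hP'H : P' ≤ H := Subgroup.map_subtype_le P
  have hpg : IsPGroup 3 P' := IsPGroup.of_card (n := 6) (by rw [hP']; norm_num)
  obtain ⟨p, hp⟩ : ∃ p : Fin 112, p ∈ MulAction.fixedPoints P' (Fin 112) := by
    by_contra hno
    have := hpg.card_modEq_card_fixedPoints (Fin 112)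
    rw [Nat.card_fin, Set.eq_empty_of_forall_notMem fun p h => hno ⟨p, h⟩] at this
    simp [Nat.ModEq] at this
  refine ⟨p, ?_⟩
  have hPp : P' ≤ MulAction.stabilizer U p := fun g hg => hp ⟨g, hg⟩
  let O := MulAction.orbit H p
  have hpO : p ∈ O := MulAction.mem_orbit_self p
  have h40 : O.ncard ∣ 40 := by
    have hle : P ≤ MulAction.stabilizer H p := fun g hg => hPp (Subgroup.mem_map.2 ⟨g, hg, rfl⟩)
    have h := (MulAction.stabilizer H p).card_mul_index
    rw [MulAction.index_stabilizer, hH] at h
    obtain ⟨k, hk⟩ := Subgroup.card_dvd_of_le hle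
    rw [hP] at hk
    rw [hk] at h
    refine ⟨k, ?_⟩
    have h' : 729 * k * O.ncard = 29160 := by simpa using h
    rw [mul_assoc] at h'
    rw [mul_comm]
    omega
  have hlt : O.ncard ≤ 40 := Nat.le_of_dvd (by norm_num) h40
  have hclosed : ∀ g : U, g ∈ P' → ∀ x ∈ O, g • x ∈ O := by
    intro g hg x ⟨k, hk⟩
    exact ⟨⟨g, hP'H hg⟩ * k, by rw [← hk]; exact mul_smul (⟨g, hP'H hg⟩ : H) k p⟩
  have hnofix : ∀ x, x ≠ p → ¬ P' ≤ MulAction.stabilizer U x := by
    intro x hx hle
    have hd := Subgroup.card_dvd_of_le (le_inf hPp hle)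
    rw [hP'] at hd
    by_cases h : Alj p x
    · rw [(card_two hx).1 h] at hd; omega
    · rw [(card_two hx).2 h] at hd; omega
  have hnear : ∀ x ∈ O, x ≠ p → Alj p x := by
    intro x hx hne
    by_contra h
    have horb : MulAction.orbit P' x ⊆ O := by
      rintro _ ⟨g, rfl⟩
      exact hclosed g g.2 x hx
    have hsz := (MulAction.stabilizer P' x).card_mul_index
    rw [MulAction.index_stabilizer, hP'] at hsz
    have hst : (MulAction.stabilizer P' x).map P'.subtype ≤
        MulAction.stabilizer U p ⊓ MulAction.stabilizer U x := by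
      rintro _ ⟨g, hg, rfl⟩
      exact Subgroup.mem_inf.2 ⟨hPp g.2, hg⟩
    have hd := Subgroup.card_dvd_of_le hst
    rw [(card_two hne).2 h, Nat.card_congr
      ((MulAction.stabilizer P' x).equivMapOfInjective _ P'.subtype_injective).symm.toEquiv] at hd
    have hd9 : Nat.card (MulAction.stabilizer P' x) ∣ 9 := by
      have h729 : Nat.card (MulAction.stabilizer P' x) ∣ 729 := ⟨_, hsz.symm⟩
      exact (Nat.dvd_gcd h729 hd).trans (by norm_num)
    have h9 := Nat.le_of_dvd (by norm_num) hd9
    have := Set.ncard_le_ncard horb (Set.toFinite _)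
    nlinarith
  have hclique : ∀ x ∈ O, ∀ y ∈ O, x ≠ y → Alj x y := by
    rintro x ⟨k, rfl⟩ y hy hne
    have hy' : (k⁻¹ : H) • y ∈ O := by
      obtain ⟨l, rfl⟩ := hy
      exact ⟨k⁻¹ * l, mul_smul k⁻¹ l p⟩
    have hne' : (k⁻¹ : H) • y ≠ p := fun e => hne (by rw [← e]; exact smul_inv_smul k y)
    have := (isAut_loc (k : U) p ((k⁻¹ : H) • y)).2 (hnear _ hy' hne')
    rwa [show loc (k : U) ((k⁻¹ : H) • y) = y from smul_inv_smul k y] at this
  have h4 : O.ncard ≤ 4 := by
    by_cases h : ∃ x ∈ O, x ≠ p
    · obtain ⟨x, hx, hxp⟩ := h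
      obtain ⟨z, w, -, -, hcom, -⟩ := exists_line (hnear x hx hxp)
      have hsub : O ⊆ ({p, x, z, w} : Set (Fin 112)) := by
        intro y hy
        by_cases h1 : y = p
        · simp [h1]
        by_cases h2 : y = x
        · simp [h2]
        rcases (hcom y).1 ⟨hnear y hy h1, hclique x hx y hy (Ne.symm h2)⟩ with e | e <;> simp [e]
      refine (Set.ncard_le_ncard hsub (Set.toFinite _)).trans ?_
      refine (Set.ncard_insert_le _ _).trans (Nat.add_le_add_right ?_ 1)
      refine (Set.ncard_insert_le _ _).trans (Nat.add_le_add_right ?_ 1)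
      exact (Set.ncard_insert_le _ _).trans (by rw [Set.ncard_singleton])
    · push Not at h
      have : O ⊆ {p} := fun x hx => h x hx
      exact (Set.ncard_le_ncard this (Set.toFinite _)).trans (by simp)
  by_cases hO : O ⊆ {p}
  · exact fun g hg => hO ⟨⟨g, hg⟩, rfl⟩
  exfalso
  obtain ⟨x, hx, hxp⟩ := Set.not_subset.1 hO
  have hxp' : x ≠ p := hxp
  have hO2 : 2 ≤ O.ncard := by
    rw [← Set.ncard_pair (Ne.symm hxp')]
    exact Set.ncard_le_ncard (Set.insert_subset hpO (Set.singleton_subset_iff.2 hx)) (Set.toFinite _)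
  have hO4 : O.ncard = 4 := by
    by_contra hne4
    have h2 : O.ncard = 2 := by
      rcases h40 with ⟨k, hk⟩
      interval_cases hn : O.ncard <;> omega
    have hpair : O = {p, x} := (Set.eq_of_subset_of_ncard_le
      (Set.insert_subset hpO (Set.singleton_subset_iff.2 hx)) (by rw [Set.ncard_pair (Ne.symm hxp'), h2])
      (Set.toFinite _)).symm
    refine hnofix x hxp' fun g hg => ?_
    have hgx := hclosed g hg x hx
    rw [hpair] at hgx
    rcases hgx with e | e
    · exact absurd (MulAction.injective g (e.trans (hPp hg).symm)) hxp'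
    · exact e
  obtain ⟨h, hh⟩ := exists_prime_orderOf_dvd_card' (G := H) 5 (by rw [hH]; norm_num)
  have hfixO : ∀ y ∈ O, h • y = y := by
    intro y hy
    let Z := Subgroup.zpowers h
    have hd : (MulAction.orbit Z y).ncard ∣ 5 := by
      refine ⟨Nat.card (MulAction.stabilizer Z y), ?_⟩
      rw [← hh, ← Nat.card_zpowers, ← (MulAction.stabilizer Z y).card_mul_index, MulAction.index_stabilizer,
        mul_comm]
    have hle : (MulAction.orbit Z y).ncard ≤ 4 := by
      rw [← hO4]
      refine Set.ncard_le_ncard ?_ (Set.toFinite _)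
      rintro _ ⟨g, rfl⟩
      obtain ⟨k, rfl⟩ := hy
      exact ⟨(g : H) * k, mul_smul (g : H) k p⟩
    have h1 : (MulAction.orbit Z y).ncard = 1 :=
      ((Nat.dvd_prime (by norm_num)).1 hd).resolve_right (by omega)
    obtain ⟨z, hz⟩ := Set.ncard_eq_one.1 h1
    have e1 : y ∈ ({z} : Set (Fin 112)) := hz ▸ MulAction.mem_orbit_self y
    have e2 : h • y ∈ ({z} : Set (Fin 112)) :=
      hz ▸ ⟨(⟨h, Subgroup.mem_zpowers h⟩ : Z), rfl⟩
    exact (e2 : h • y = z).trans (e1 : y = z).symm
  have hfact : (Nat.card U).factorization 5 = 1 := by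
    rw [card_U]
    refine le_antisymm ?_ ((Nat.Prime.pow_dvd_iff_le_factorization (by norm_num) (by norm_num)).1 (by norm_num))
    by_contra hgt
    have := (Nat.Prime.pow_dvd_iff_le_factorization (p := 5) (k := 2) (by norm_num)
      (by norm_num : (3265920 : ℕ) ≠ 0)).2 (by omega)
    norm_num at this
  let S1 : Sylow 5 U := Sylow.ofCard (Subgroup.zpowers (h : U)) (by
    rw [hfact, pow_one, Nat.card_zpowers, ← hh]
    exact orderOf_injective H.subtype H.subtype_injective h)
  let S2 : Sylow 5 U := Sylow.ofCard (Subgroup.zpowers (elemU fiveW)) (by rw [hfact, pow_one, card_five])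
  obtain ⟨g, hg⟩ := MulAction.exists_smul_eq U S1 S2
  have hmem : elemU fiveW ∈ ((g • S1 : Sylow 5 U) : Subgroup U) := by
    rw [hg]; exact Subgroup.mem_zpowers _
  rw [Sylow.coe_subgroup_smul] at hmem
  obtain ⟨z, hz, hzeq⟩ := hmem
  have hz' : ∀ y ∈ O, z • y = y := fun y hy => by
    have hle : Subgroup.zpowers (h : U) ≤ MulAction.stabilizer U y :=
      Subgroup.zpowers_le.2 (hfixO y hy)
    exact hle hz
  have hfive : ∀ y ∈ O, loc (elemU fiveW) (g • y) = g • y := by
    intro y hy
    rw [← hzeq]
    show (g * z * g⁻¹) • g • y = g • y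
    rw [mul_smul, inv_smul_smul, mul_smul, hz' y hy]
  have hc := five_ok.2
  rw [← card_filter_range (p := fun i : Fin 112 => loc (elemU fiveW) i = i) fun i => by
    rw [Nat.beq_eq, appL_eq five_lt, Fin.ext_iff]] at hc
  have hsub : (fun y => g • y) '' O ⊆ ↑(Finset.univ.filter fun i : Fin 112 => loc (elemU fiveW) i = i) := by
    rintro _ ⟨y, hy, rfl⟩
    simp only [Finset.coe_filter, Finset.mem_univ, true_and, Set.mem_ofPred_eq]
    exact hfive y hy
  have := Set.ncard_le_ncard hsub (Set.toFinite _)
  rw [Set.ncard_image_of_injective _ (MulAction.injective g), Set.ncard_coe_finset, hc, hO4] at this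
  omega

end CfsgLib.Sporadic.McLRank
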