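import Cfsg.Agent.Lib.Sporadic.McLRank.Index
import Cfsg.Agent.Lib.Sporadic.McLRank.Graph

/-!
Labelling of the 275 points of a group with the given point stabiliser and suborbits by the points of the
model, compatibly with the point stabilisers and with adjacency.
-/

set_option autoImplicit false
set_option maxRecDepth 10000

open scoped Classical

namespace CfsgLib.Sporadic.McLRank

open CfsgLib.Sporadic.OutCert

attribute [local irreducible] lk pkF allF compK iterK alK muK lineTab genL optTab cycK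

noncomputable local instance nbAct : MulAction U (Fin 112) := MulAction.compHom _ loc

local instance : MulAction.IsPretransitive U (Fin 112) :=
  ⟨fun i j => by
    obtain ⟨u, hu⟩ := trans_all i
    obtain ⟨w, hw⟩ := trans_all j
    refine ⟨w * u⁻¹, ?_⟩
    show loc (w * u⁻¹) i = j
    rw [map_mul, map_inv, Equiv.Perm.mul_apply, Equiv.Perm.inv_eq_iff_eq.2 hu.symm, hw]⟩

variable {Ω : Type*} [Fintype Ω] [DecidableEq Ω] {G : Subgroup (Equiv.Perm Ω)} {a b c : Ω}
  {R : Ω → Ω → Prop}

/-- A labelling of the neighbours of `a` compatible with an isomorphism of the point stabilisers. -/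
structure NearLabel (G : Subgroup (Equiv.Perm Ω)) (a : Ω) (R : Ω → Ω → Prop) where
  θ : MulAction.stabilizer G a ≃* U
  e : {y // R a y} ≃ Fin 112
  equiv : ∀ (k : MulAction.stabilizer G a) (y : {y // R a y}) (h : R a (k • (y : Ω))),
    e ⟨k • (y : Ω), h⟩ = loc (θ k) (e y)

theorem GraphData.smul_near (d : GraphData G a b c R) (k : MulAction.stabilizer G a) {y : Ω} (h : R a y) :
    R a (k • y) := by
  have h2 := (d.inv (k : G) a y).2 h
  rwa [show (k : G) • a = a from k.2] at h2

theorem GraphData.card_stab (d : GraphData G a b c R) (θ : MulAction.stabilizer G a ≃* U)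
    (hb : (MulAction.orbit (MulAction.stabilizer G a) b).ncard = 112) :
    Nat.card (MulAction.stabilizer (MulAction.stabilizer G a) b) = 29160 := by
  have h := (MulAction.stabilizer (MulAction.stabilizer G a) b).card_mul_index
  rw [MulAction.index_stabilizer, hb, Nat.card_congr θ.toEquiv, card_U] at h
  omega

theorem exists_nearLabel (d : GraphData G a b c R) (θ : MulAction.stabilizer G a ≃* U)
    (hb : (MulAction.orbit (MulAction.stabilizer G a) b).ncard = 112) : Nonempty (NearLabel G a R) := by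
  classical
  let K := MulAction.stabilizer G a
  obtain ⟨p, hp⟩ := eq_stabilizer ((MulAction.stabilizer K b).map θ.toMonoidHom) (by
    rw [Nat.card_congr ((MulAction.stabilizer K b).equivMapOfInjective _ θ.injective).symm.toEquiv,
      d.card_stab θ hb])
  have key : ∀ k k' : K, k • b = k' • b ↔ θ k • p = θ k' • p := by
    intro k k'
    rw [← inv_smul_eq_iff, ← inv_smul_eq_iff, ← mul_smul, ← mul_smul, ← map_inv, ← map_mul]
    constructor <;> intro h
    · have : θ (k'⁻¹ * k) ∈ (MulAction.stabilizer K b).map θ.toMonoidHom :=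
        Subgroup.mem_map.2 ⟨_, MulAction.mem_stabilizer_iff.2 h, rfl⟩
      rwa [hp] at this
    · have : θ (k'⁻¹ * k) ∈ (MulAction.stabilizer K b).map θ.toMonoidHom := by rw [hp]; exact h
      obtain ⟨g, hg, hg'⟩ := Subgroup.mem_map.1 this
      rwa [θ.injective hg'] at hg
  have hex : ∀ y : {y // R a y}, ∃ k : K, k • b = (y : Ω) := fun y => (d.base y).1 y.2
  choose kk hkk using hex
  let f : {y // R a y} → Fin 112 := fun y => θ (kk y) • p
  have hf : Function.Bijective f := by
    refine ⟨fun y z e => Subtype.ext ?_, fun i => ?_⟩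
    · rw [← hkk y, ← hkk z]; exact (key _ _).2 e
    · obtain ⟨u, hu⟩ := MulAction.exists_smul_eq U p i
      obtain ⟨k, rfl⟩ := θ.surjective u
      refine ⟨⟨k • b, (d.base _).2 ⟨k, rfl⟩⟩, ?_⟩
      rw [← hu]
      exact (key _ _).1 (hkk _)
  refine ⟨⟨θ, Equiv.ofBijective f hf, fun k y h => ?_⟩⟩
  show θ (kk ⟨_, h⟩) • p = θ k • θ (kk y) • p
  rw [← mul_smul, ← map_mul]
  exact (key _ _).1 (by rw [hkk, mul_smul, hkk])

theorem adj_iff_of_card {Q : Fin 112 → Fin 112 → Prop} (hirr : ∀ i, ¬ Q i i)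
    (hinv : ∀ (u : U) i j, Q (loc u i) (loc u j) ↔ Q i j) (p : Fin 112) {n : ℕ}
    (hn : (Finset.univ.filter (Q p)).card = n) :
    n = 0 ∨ n = 81 ∨ n = 111 ∨ n = 30 ∧ ∀ i j, Q i j ↔ Alj i j := by
  classical
  have hedge : ∀ {i j i' j' : Fin 112}, Alj i j → Alj i' j' → Q i j → Q i' j' := by
    intro i j i' j' h h' hq
    obtain ⟨u, rfl, rfl⟩ := trans_edge h h'
    exact (hinv u i j).2 hq
  have hapart : ∀ {i j i' j' : Fin 112}, ¬ Alj i j → i ≠ j → ¬ Alj i' j' → i' ≠ j' → Q i j → Q i' j' := by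
    intro i j i' j' h hne h' hne' hq
    obtain ⟨u, rfl, rfl⟩ := trans_apart h hne h' hne'
    exact (hinv u i j).2 hq
  subst hn
  by_cases hE : ∀ i j, Alj i j → Q i j <;> by_cases hA : ∀ i j, ¬ Alj i j → i ≠ j → Q i j
  · right; right; left
    rw [show Finset.univ.filter (Q p) = Finset.univ.erase p from ?_, Finset.card_erase_of_mem (Finset.mem_univ p),
      Finset.card_univ, Fintype.card_fin]
    ext i
    simp only [Finset.mem_filter, Finset.mem_univ, true_and, Finset.mem_erase, and_true]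
    refine ⟨fun h e => hirr p (e ▸ h), fun h => ?_⟩
    by_cases h' : Alj p i
    · exact hE _ _ h'
    · exact hA _ _ h' (Ne.symm h)
  · push Not at hA
    obtain ⟨i₀, j₀, h0, h1, h2⟩ := hA
    right; right; right
    have hQ : ∀ i j, Q i j ↔ Alj i j := by
      refine fun i j => ⟨fun hq => ?_, hE i j⟩
      by_contra h
      exact h2 (hapart h (fun e => hirr i (e ▸ hq)) h0 h1 hq)
    refine ⟨?_, hQ⟩
    rw [← card_alj p]
    exact congrArg Finset.card (Finset.filter_congr fun i _ => hQ p i)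
  · push Not at hE
    obtain ⟨i₀, j₀, h0, h2⟩ := hE
    right; left
    rw [← card_away p]
    refine congrArg Finset.card (Finset.filter_congr fun i _ => ⟨fun hq => ?_, fun h => hA _ _ h.1 (Ne.symm h.2)⟩)
    exact ⟨fun h => h2 (hedge h h0 hq), fun e => hirr p (e ▸ hq)⟩
  · push Not at hE hA
    obtain ⟨i₀, j₀, h0, h2⟩ := hE
    obtain ⟨i₁, j₁, h0', h1, h2'⟩ := hA
    left
    rw [Finset.card_eq_zero, Finset.filter_eq_empty_iff]
    intro i _ hq
    by_cases h : Alj p i
    · exact h2 (hedge h h0 hq)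
    · exact h2' (hapart h (fun e => hirr p (e ▸ hq)) h0' h1 hq)

theorem NearLabel.adjacency (L : NearLabel G a R) (d : GraphData G a b c R) :
    (∀ y z : {y // R a y}, R (y : Ω) (z : Ω) ↔ Alj (L.e y) (L.e z)) ∧
      (Finset.univ.filter fun z => R a z ∧ R c z).card = 56 := by
  classical
  let Q : Fin 112 → Fin 112 → Prop := fun i j => R (L.e.symm i : Ω) (L.e.symm j : Ω)
  have hinv : ∀ (u : U) i j, Q (loc u i) (loc u j) ↔ Q i j := by
    intro u i j
    obtain ⟨k, rfl⟩ := L.θ.surjective u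
    have h : ∀ i, (L.e.symm (loc (L.θ k) i) : Ω) = k • (L.e.symm i : Ω) := by
      intro i
      have hm := d.smul_near k (L.e.symm i).2
      have := L.equiv k (L.e.symm i) hm
      rw [Equiv.apply_symm_apply] at this
      rw [← this, Equiv.symm_apply_apply]
    show R _ _ ↔ R _ _
    rw [h, h]
    exact d.inv (k : G) _ _
  have hab : R a b := (d.base b).2 (MulAction.mem_orbit_self b)
  have hn : (Finset.univ.filter (Q (L.e ⟨b, hab⟩))).card = (Finset.univ.filter fun z => R a z ∧ R b z).card := by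
    refine Finset.card_bij (fun i _ => (L.e.symm i : Ω)) (fun i hi => ?_) (fun i _ j _ e => ?_) (fun z hz => ?_)
    · simp only [Q, Finset.mem_filter, Finset.mem_univ, true_and, Equiv.symm_apply_apply] at hi ⊢
      exact ⟨(L.e.symm i).2, hi⟩
    · exact L.e.symm.injective (Subtype.ext e)
    · simp only [Finset.mem_filter, Finset.mem_univ, true_and] at hz
      refine ⟨L.e ⟨z, hz.1⟩, ?_, by rw [Equiv.symm_apply_apply]⟩
      simp only [Q, Finset.mem_filter, Finset.mem_univ, true_and, Equiv.symm_apply_apply]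
      exact hz.2
  have h := adj_iff_of_card (Q := Q) (fun i => d.irrefl _) hinv _ hn
  have hcnt := d.count
  have hnf := d.not_full
  rcases h with h | h | h | ⟨h, hQ⟩
  · omega
  · omega
  · exact absurd h hnf
  · refine ⟨fun y z => ?_, by omega⟩
    rw [← hQ]
    simp only [Q, Equiv.symm_apply_apply]

/-- The common neighbours of `a` and `c`, by labels. -/
noncomputable def setOf' (L : NearLabel G a R) (c : Ω) (i : Fin 112) : Bool := decide (R c (L.e.symm i : Ω))

theorem setOf'_line (L : NearLabel G a R) [MulAction.IsPretransitive G Ω] (d : GraphData G a b c R)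
    {p q r s : Fin 112} (h : IsQuad p q r s) :
    setOf' L c p = true → (setOf' L c q).toNat + (setOf' L c r).toNat + (setOf' L c s).toNat = 1 := by
  intro hp
  obtain ⟨hadj, -⟩ := L.adjacency d
  simp only [setOf', decide_eq_true_eq] at hp
  obtain ⟨g, hg⟩ := MulAction.exists_smul_eq G a (L.e.symm p : Ω)
  have hpull : ∀ {x : Ω}, R (L.e.symm p : Ω) x → R a (g⁻¹ • x) := fun hx => by
    rw [← d.inv g, hg, smul_inv_smul]; exact hx
  have hR : ∀ {i j}, Alj i j → R (L.e.symm i : Ω) (L.e.symm j : Ω) := fun hij => by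
    rw [hadj, Equiv.apply_symm_apply, Equiv.apply_symm_apply]; exact hij
  let t0 : {y // R a y} := ⟨g⁻¹ • a, hpull (d.symm (L.e.symm p).2)⟩
  let t1 : {y // R a y} := ⟨g⁻¹ • (L.e.symm q : Ω), hpull (hR h.1)⟩
  let t2 : {y // R a y} := ⟨g⁻¹ • (L.e.symm r : Ω), hpull (hR h.2.1)⟩
  let t3 : {y // R a y} := ⟨g⁻¹ • (L.e.symm s : Ω), hpull (hR h.2.2.1)⟩
  let t4 : {y // R a y} := ⟨g⁻¹ • c, hpull (d.symm hp)⟩
  have hA : ∀ (y z : {y // R a y}) (x w : Ω), (y : Ω) = g⁻¹ • x → (z : Ω) = g⁻¹ • w →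
      (Alj (L.e y) (L.e z) ↔ R x w) := by
    intro y z x w hy hz
    rw [← hadj, hy, hz, d.inv]
  have hne : ∀ (y z : {y // R a y}) (x w : Ω), (y : Ω) = g⁻¹ • x → (z : Ω) = g⁻¹ • w → x ≠ w →
      L.e y ≠ L.e z := by
    intro y z x w hy hz hne e
    have := congrArg Subtype.val (L.e.injective e)
    rw [hy, hz] at this
    exact hne (MulAction.injective _ this)
  have hq : IsQuad (L.e t0) (L.e t1) (L.e t2) (L.e t3) :=
    ⟨(hA _ _ _ _ rfl rfl).2 (L.e.symm q).2, (hA _ _ _ _ rfl rfl).2 (L.e.symm r).2,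
      (hA _ _ _ _ rfl rfl).2 (L.e.symm s).2, (hA _ _ _ _ rfl rfl).2 (hR h.2.2.2.1),
      (hA _ _ _ _ rfl rfl).2 (hR h.2.2.2.2.1), (hA _ _ _ _ rfl rfl).2 (hR h.2.2.2.2.2)⟩
  have hcn : ∀ i : Fin 112, c ≠ (L.e.symm i : Ω) := fun i e => d.nac (e ▸ (L.e.symm i).2)
  have hone := quad_one (x := L.e t4) hq (hne _ _ _ _ rfl rfl d.ac.symm) (hne _ _ _ _ rfl rfl (hcn q))
    (hne _ _ _ _ rfl rfl (hcn r)) (hne _ _ _ _ rfl rfl (hcn s))
  rw [hA t0 t4 a c rfl rfl, hA t1 t4 _ c rfl rfl, hA t2 t4 _ c rfl rfl, hA t3 t4 _ c rfl rfl] at hone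
  have hsw : ∀ x, R x c ↔ R c x := fun x => ⟨d.symm, d.symm⟩
  rw [hsw (L.e.symm q : Ω), hsw (L.e.symm r : Ω), hsw (L.e.symm s : Ω)] at hone
  rcases hone with ⟨h0, -⟩ | ⟨-, h1, h2, h3⟩ | ⟨-, h1, h2, h3⟩ | ⟨-, h1, h2, h3⟩
  · exact absurd h0 d.nac
  all_goals simp [setOf', h1, h2, h3]

end CfsgLib.Sporadic.McLRank
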