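import Cfsg.Agent.Lib.Sporadic.McLRank.Model

/-!
The graph on the 112 neighbours: lines, the normalisation of the stabiliser by all automorphisms, and
the sets invariant under an element of order 7 meeting every line in two points.
-/

set_option autoImplicit false
set_option maxRecDepth 10000

namespace CfsgLib.Sporadic.McLRank

open CfsgLib.Sporadic.OutCert

attribute [local irreducible] lk pkF allF compK iterK alK muK lineTab genL optTab cycK

/-- Four pairwise adjacent neighbours. -/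
def IsQuad (p q r s : Fin 112) : Prop :=
  Alj p q ∧ Alj p r ∧ Alj p s ∧ Alj q r ∧ Alj q s ∧ Alj r s

theorem testBit_union {l : List (ℕ × ℕ × ℕ)} {j : ℕ}
    (h : Nat.testBit (l.foldr (fun t m => 2 ^ t.1 ||| 2 ^ t.2.1 ||| 2 ^ t.2.2 ||| m) 0) j = true) :
    ∃ t ∈ l, t.1 = j ∨ t.2.1 = j ∨ t.2.2 = j := by
  induction l with
  | nil => simp at h
  | cons t l ih =>
    simp only [List.foldr_cons, Nat.testBit_or, Nat.testBit_two_pow, Bool.or_eq_true, decide_eq_true_eq] at h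
    rcases h with ((h | h) | h) | h
    · exact ⟨t, List.mem_cons_self, Or.inl h⟩
    · exact ⟨t, List.mem_cons_self, Or.inr (Or.inl h)⟩
    · exact ⟨t, List.mem_cons_self, Or.inr (Or.inr h)⟩
    · obtain ⟨t', h1, h2⟩ := ih h
      exact ⟨t', List.mem_cons_of_mem _ h1, h2⟩

theorem com_of_mask {i j b c : Fin 112} (h : lk 112 alK i &&& lk 112 alK j = 2 ^ (b : ℕ) ||| 2 ^ (c : ℕ))
    (x : Fin 112) : (Alj i x ∧ Alj j x) ↔ (x = b ∨ x = c) := by
  have := congrArg (fun n => Nat.testBit n x) h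
  simp only [Nat.testBit_and, Nat.testBit_or, Nat.testBit_two_pow] at this
  unfold Alj aljK
  rw [← Bool.and_eq_true, this, Bool.or_eq_true, decide_eq_true_eq, decide_eq_true_eq, Fin.ext_iff, Fin.ext_iff]
  tauto

/-- The line through two adjacent points. -/
theorem exists_line {i j : Fin 112} (h : Alj i j) : ∃ z w : Fin 112, z ≠ w ∧ Alj z w ∧
    (∀ x, (Alj i x ∧ Alj j x) ↔ (x = z ∨ x = w)) ∧ ∀ x, Alj i x ∨ Alj j x ∨ Alj z x ∨ Alj w x := by
  have hi := allF_iff.1 gq_ok i i.2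
  simp only [Bool.and_eq_true, Nat.beq_eq, List.all_eq_true, Nat.blt_eq] at hi
  obtain ⟨t, ht, hj⟩ := testBit_union (l := linesAt i) (j := j) (by rw [hi.1]; exact h)
  obtain ⟨⟨⟨⟨⟨⟨l1, l2⟩, l3⟩, c1⟩, c2⟩, c3⟩, hall⟩ := hi.2 t ht
  simp only [comK, Bool.and_eq_true, Nat.beq_eq, Bool.not_eq_true', ← Bool.not_eq_true] at c1 c2 c3
  have hall' : ∀ x : Fin 112, Alj i x ∨ Alj ⟨t.1, l1⟩ x ∨ Alj ⟨t.2.1, l2⟩ x ∨ Alj ⟨t.2.2, l3⟩ x := by
    intro x
    have := congrArg (fun n => Nat.testBit n x) hall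
    simp only [Nat.testBit_or, Nat.testBit_two_pow_sub_one, x.2, decide_true, Bool.or_eq_true] at this
    unfold Alj aljK
    tauto
  rcases hj with hj | hj | hj
  · obtain rfl : j = ⟨t.1, l1⟩ := Fin.ext hj.symm
    refine ⟨⟨t.2.1, l2⟩, ⟨t.2.2, l3⟩, fun e => c1.2.1 (congrArg Fin.val e), c1.2.2, com_of_mask c1.1, hall'⟩
  · obtain rfl : j = ⟨t.2.1, l2⟩ := Fin.ext hj.symm
    refine ⟨⟨t.1, l1⟩, ⟨t.2.2, l3⟩, fun e => c2.2.1 (congrArg Fin.val e), c2.2.2, com_of_mask c2.1, fun x => ?_⟩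
    have := hall' x
    tauto
  · obtain rfl : j = ⟨t.2.2, l3⟩ := Fin.ext hj.symm
    refine ⟨⟨t.1, l1⟩, ⟨t.2.1, l2⟩, fun e => c3.2.1 (congrArg Fin.val e), c3.2.2, com_of_mask c3.1, fun x => ?_⟩
    have := hall' x
    tauto

theorem quad_com {p q r s : Fin 112} (h : IsQuad p q r s) (x : Fin 112) :
    (Alj p x ∧ Alj q x) ↔ (x = r ∨ x = s) := by
  obtain ⟨hpq, hpr, hps, hqr, hqs, hrs⟩ := h
  obtain ⟨z, w, -, -, hcom, -⟩ := exists_line hpq
  have hr := (hcom r).1 ⟨hpr, hqr⟩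
  have hs := (hcom s).1 ⟨hps, hqs⟩
  have hne : r ≠ s := fun e => alj_irrefl _ (e ▸ hrs)
  rw [hcom]
  rcases hr with rfl | rfl <;> rcases hs with rfl | rfl
  · exact absurd rfl hne
  · rfl
  · tauto
  · exact absurd rfl hne

theorem quad_any {p q r s : Fin 112} (h : IsQuad p q r s) (x : Fin 112) :
    Alj p x ∨ Alj q x ∨ Alj r x ∨ Alj s x := by
  obtain ⟨hpq, hpr, hps, hqr, hqs, hrs⟩ := h
  obtain ⟨z, w, -, -, hcom, hall⟩ := exists_line hpq
  have hr := (hcom r).1 ⟨hpr, hqr⟩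
  have hs := (hcom s).1 ⟨hps, hqs⟩
  have hne : r ≠ s := fun e => alj_irrefl _ (e ▸ hrs)
  have := hall x
  rcases hr with rfl | rfl <;> rcases hs with rfl | rfl
  · exact absurd rfl hne
  · exact this
  · tauto
  · exact absurd rfl hne

theorem IsQuad.swap {p q r s : Fin 112} (h : IsQuad p q r s) : IsQuad q p r s :=
  ⟨alj_symm h.1, h.2.2.2.1, h.2.2.2.2.1, h.2.1, h.2.2.1, h.2.2.2.2.2⟩

theorem IsQuad.rot {p q r s : Fin 112} (h : IsQuad p q r s) : IsQuad q r s p :=
  ⟨h.2.2.2.1, h.2.2.2.2.1, alj_symm h.1, h.2.2.2.2.2, alj_symm h.2.1, alj_symm h.2.2.1⟩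

/-- A point off a line is adjacent to exactly one point of it. -/
theorem quad_one {p q r s x : Fin 112} (h : IsQuad p q r s) (hp : x ≠ p) (hq : x ≠ q) (hr : x ≠ r) (hs : x ≠ s) :
    (Alj p x ∧ ¬ Alj q x ∧ ¬ Alj r x ∧ ¬ Alj s x) ∨ (¬ Alj p x ∧ Alj q x ∧ ¬ Alj r x ∧ ¬ Alj s x) ∨
      (¬ Alj p x ∧ ¬ Alj q x ∧ Alj r x ∧ ¬ Alj s x) ∨ (¬ Alj p x ∧ ¬ Alj q x ∧ ¬ Alj r x ∧ Alj s x) := by
  have hq' : IsQuad p r q s :=
    ⟨h.2.1, h.1, h.2.2.1, alj_symm h.2.2.2.1, h.2.2.2.2.2, h.2.2.2.2.1⟩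
  have pq : Alj p x → ¬ Alj q x := fun a b => ((quad_com h x).1 ⟨a, b⟩).elim hr hs
  have qr : Alj q x → ¬ Alj r x := fun a b => ((quad_com h.rot x).1 ⟨a, b⟩).elim hs hp
  have rs : Alj r x → ¬ Alj s x := fun a b => ((quad_com h.rot.rot x).1 ⟨a, b⟩).elim hp hq
  have sp : Alj s x → ¬ Alj p x := fun a b => ((quad_com h.rot.rot.rot x).1 ⟨a, b⟩).elim hq hr
  have pr : Alj p x → ¬ Alj r x := fun a b => ((quad_com hq' x).1 ⟨a, b⟩).elim hq hs
  have qs : Alj q x → ¬ Alj s x := fun a b => ((quad_com hq'.rot.rot x).1 ⟨a, b⟩).elim hp hr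
  rcases quad_any h x with a | a | a | a
  · exact Or.inl ⟨a, pq a, pr a, fun b => sp b a⟩
  · exact Or.inr (Or.inl ⟨fun b => pq b a, a, qr a, qs a⟩)
  · exact Or.inr (Or.inr (Or.inl ⟨fun b => pr b a, fun b => qr b a, a, rs a⟩))
  · exact Or.inr (Or.inr (Or.inr ⟨sp a, fun b => qs b a, fun b => rs b a, a⟩))

theorem IsAut.quad {σ : L} (hσ : IsAut σ) {p q r s : Fin 112} (h : IsQuad p q r s) :
    IsQuad (σ p) (σ q) (σ r) (σ s) :=
  ⟨(hσ p q).2 h.1, (hσ p r).2 h.2.1, (hσ p s).2 h.2.2.1, (hσ q r).2 h.2.2.2.1, (hσ q s).2 h.2.2.2.2.1,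
    (hσ r s).2 h.2.2.2.2.2⟩

/-! ### Root elements and the normalisation -/

/-- The automorphism fixes a set of points and each line meeting it. -/
def Axial (A : Set (Fin 112)) (σ : L) : Prop :=
  IsAut σ ∧ (∀ z ∈ A, σ z = z) ∧
    ∀ y ∉ A, ∀ z ∈ A, Alj z y → σ y = y ∨ (Alj z (σ y) ∧ Alj y (σ y))

theorem Axial.mul {A : Set (Fin 112)} {σ τ : L} (hσ : Axial A σ) (hτ : Axial A τ) : Axial A (σ * τ) := by
  refine ⟨hσ.1.mul hτ.1, fun z hz => by rw [Equiv.Perm.mul_apply, hτ.2.1 z hz, hσ.2.1 z hz], fun y hy z hz hzy => ?_⟩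
  rw [Equiv.Perm.mul_apply]
  have hu : τ y ∉ A := fun h => hy (by rwa [τ.injective (hτ.2.1 _ h)] at h)
  rcases hτ.2.2 y hy z hz hzy with e | ⟨hzu, hyu⟩
  · rw [e]; exact hσ.2.2 y hy z hz hzy
  rcases hσ.2.2 (τ y) hu z hz hzu with e | ⟨h1, h2⟩
  · rw [e]; exact Or.inr ⟨hzu, hyu⟩
  obtain ⟨z', w', hne, hzw, hcom, -⟩ := exists_line hzu
  have hy' := (hcom y).1 ⟨hzy, alj_symm hyu⟩
  have hs' := (hcom _).1 ⟨h1, h2⟩
  by_cases e : σ (τ y) = y
  · exact Or.inl e
  refine Or.inr ⟨h1, ?_⟩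
  generalize σ (τ y) = t at e h1 hs' ⊢
  rcases hy' with hy' | hy' <;> rcases hs' with hs' | hs' <;>
    first
      | exact absurd (hs'.trans hy'.symm) e
      | (rw [hy', hs']; first | exact hzw | exact alj_symm hzw)

theorem Axial.conj {A : Set (Fin 112)} {σ h : L} (hσ : Axial A σ) (hh : IsAut h) :
    Axial (h '' A) (h * σ * h⁻¹) := by
  refine ⟨(hh.mul hσ.1).mul hh.inv, ?_, ?_⟩
  · rintro _ ⟨z, hz, rfl⟩
    rw [Equiv.Perm.mul_apply, Equiv.Perm.mul_apply, perm_inv_apply, hσ.2.1 z hz]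
  · rintro y hy _ ⟨z, hz, rfl⟩ hzy
    obtain ⟨y, rfl⟩ : ∃ w, h w = y := ⟨_, perm_apply_inv h y⟩
    rw [Equiv.Perm.mul_apply, Equiv.Perm.mul_apply, perm_inv_apply, hh, hh, h.injective.eq_iff]
    exact hσ.2.2 y (fun e => hy ⟨y, e, rfl⟩) z hz ((hh z y).1 hzy)

/-- The axis. -/
def axisSet : Set (Fin 112) := {z | (z : ℕ) ∈ axis}

theorem axisSet_eq : axisSet = {15, 29, 51, 103} := by
  ext z
  simp [axisSet, root_ok.1, Fin.ext_iff]

theorem axisSet_quad : IsQuad 15 29 51 103 := by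
  obtain ⟨-, h, h2, -⟩ := root_ok
  have hc := com_of_mask (i := 15) (j := 29) (b := 51) (c := 103) (Nat.beq_eq ▸ h2)
  obtain ⟨z, w, hne, hzw, hcom, -⟩ := exists_line (show Alj 15 29 from h)
  have h51 := (hc 51).2 (Or.inl rfl)
  have h103 := (hc 103).2 (Or.inr rfl)
  refine ⟨h, h51.1, h103.1, h51.2, h103.2, ?_⟩
  rcases (hcom 51).1 h51 with e | e <;> rcases (hcom 103).1 h103 with e' | e' <;>
    first
      | exact absurd (e.trans e'.symm) (by decide)
      | (rw [e, e']; first | exact hzw | exact alj_symm hzw)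

/-- The root element. -/
noncomputable def root : L := loc (elemU rootW)

theorem root_lt : ∀ k ∈ rootW, k < 3 := lt_three (by simp)

theorem rootL_eq (i : Fin 112) : rootL i = (root i : ℕ) := appL_eq root_lt i

theorem opt_spec {y : Fin 112} (hy : y ∉ axisSet) : ∃ z a b : Fin 112,
    (optAt y).1 = z ∧ (optAt y).2.1 = a ∧ (optAt y).2.2 = b ∧ z ∈ axisSet ∧ Alj z y ∧
    (∀ x, (Alj z x ∧ Alj y x) ↔ (x = a ∨ x = b)) ∧ (∀ w ∈ axisSet, Alj w y → w = z) ∧
    (root y = a ∨ root y = b) := by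
  have h := allF_iff.1 root_ok.2.2.2.1 y y.2
  have hy' : axis.contains (y : ℕ) = false := by
    rw [← Bool.not_eq_true, List.contains_iff_mem]; exact hy
  simp only [hy', Bool.false_eq_true, if_false, Bool.and_eq_true, Bool.or_eq_true, List.contains_iff_mem,
    Nat.beq_eq, List.all_eq_true, Bool.not_eq_true'] at h
  obtain ⟨hz, hzy, ⟨hm, hu⟩, hr⟩ := h
  have hz' : (optAt y).1 < 112 := by
    rw [root_ok.1] at hz
    simp only [List.mem_cons, List.not_mem_nil, or_false] at hz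
    omega
  have hb : ∀ {e : ℕ}, Nat.testBit (lk 112 alK (optAt y).1 &&& lk 112 alK y) e = true → e < 112 := by
    intro e he
    by_contra hlt
    have : Nat.testBit (lk 112 alK y) e = false := Nat.testBit_lt_two_pow (lt_of_lt_of_le
      (by unfold lk; exact Nat.mod_lt _ (Nat.pow_pos (by norm_num))) (Nat.pow_le_pow_right (by norm_num) (by omega)))
    simp [Nat.testBit_and, this] at he
  have ha : (optAt y).2.1 < 112 := hb (by rw [hm]; simp [Nat.testBit_or, Nat.testBit_two_pow])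
  have hb' : (optAt y).2.2 < 112 := hb (by rw [hm]; simp [Nat.testBit_or, Nat.testBit_two_pow])
  refine ⟨⟨_, hz'⟩, ⟨_, ha⟩, ⟨_, hb'⟩, rfl, rfl, rfl, hz, hzy, com_of_mask hm, fun w hw hwy => ?_, ?_⟩
  · refine Fin.ext ((hu w hw).resolve_left fun e => ?_)
    rw [show aljK w y = true from hwy] at e
    exact Bool.false_ne_true e.symm
  · rw [rootL_eq] at hr
    exact hr.imp Fin.ext Fin.ext

theorem axial_root : Axial axisSet root := by
  refine ⟨isAut_loc _, fun z hz => ?_, fun y hy z hz hzy => ?_⟩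
  · have h := allF_iff.1 root_ok.2.2.2.1 z z.2
    rw [if_pos (List.contains_iff_mem.2 hz), Nat.beq_eq, rootL_eq] at h
    exact Fin.ext h
  · obtain ⟨z', a, b, -, -, -, -, -, hcom, huniq, hr⟩ := opt_spec hy
    obtain rfl := huniq z hz hzy
    exact Or.inr ((hcom _).2 hr)

theorem axial_start {σ : L} (hσ : Axial axisSet σ) {y : Fin 112} (hy : y ∉ axisSet) :
    σ y = y ∨ ((σ y : ℕ) = (optAt y).2.1 ∨ (σ y : ℕ) = (optAt y).2.2) := by
  obtain ⟨z, a, b, -, ha, hb, hz, hzy, hcom, -, -⟩ := opt_spec hy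
  refine (hσ.2.2 y hy z hz hzy).imp_right fun h => ?_
  rcases (hcom _).1 h with e | e
  · left; rw [ha, e]
  · right; rw [hb, e]

theorem chain_sound {σ : L} (hσ : Axial axisSet σ) : ∀ (l : List (ℕ × ℕ)) (known : List ℕ),
    chainK l known = true → (∀ y : Fin 112, (y : ℕ) ∈ known → σ y = y) → σ = 1
  | [], known, h, hk => Equiv.ext fun y => hk y (by
      simpa using allF_iff.1 h y y.2)
  | (y, z) :: rest, known, h, hk => by
    simp only [chainK, Bool.and_eq_true, Nat.blt_eq, Bool.not_eq_true', bne_iff_ne, ne_eq,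
      List.contains_iff_mem] at h
    obtain ⟨hy, hz, hya, hzk, hd1, hd2, hrest⟩ := h
    have hyA : (⟨y, hy⟩ : Fin 112) ∉ axisSet := fun e => by
      rw [← Bool.not_eq_true, List.contains_iff_mem] at hya
      exact hya e
    have hz' := hk ⟨z, hz⟩ hzk
    have hpres : aljK (σ ⟨y, hy⟩) z = aljK y z := by
      have := hσ.1 ⟨y, hy⟩ ⟨z, hz⟩
      rw [hz'] at this
      exact Bool.eq_iff_iff.2 this
    have hfix : σ ⟨y, hy⟩ = ⟨y, hy⟩ := by
      rcases axial_start hσ hyA with e | e | e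
      · exact e
      · exact absurd (by rw [← e]; exact hpres) hd1
      · exact absurd (by rw [← e]; exact hpres) hd2
    refine chain_sound hσ rest (y :: known) hrest fun w hw => ?_
    rcases List.mem_cons.1 hw with e | e
    · rw [show w = ⟨y, hy⟩ from Fin.ext e]; exact hfix
    · exact hk w e

theorem axial_eq {σ : L} (hσ : Axial axisSet σ) : σ ∈ loc.range := by
  obtain ⟨-, -, -, -, h0, h0', h3, hopt⟩ := root_ok
  have hs : (0 : Fin 112) ∉ axisSet := fun e => by
    have : axis.contains startPt = true := by rw [h0]; exact List.contains_iff_mem.2 e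
    rw [h0'] at this
    exact Bool.false_ne_true this
  have one_of : ∀ τ : L, Axial axisSet τ → τ 0 = 0 → τ = 1 := fun τ hτ h => by
    refine chain_sound hτ chain _ chain_ok fun y hy => ?_
    rcases List.mem_cons.1 hy with e | e
    · rw [show y = 0 from Fin.ext (e.trans h0)]; exact h
    · exact hτ.2.1 y e
  have hr3 : root (root (root 0)) = 0 := by
    rw [Nat.beq_eq, h0] at h3
    refine Fin.ext ?_
    rw [← rootL_eq, ← rootL_eq, ← rootL_eq]
    exact h3
  have mem : root ∈ loc.range := ⟨_, rfl⟩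
  have key : σ 0 = 0 ∨ σ 0 = root 0 ∨ σ 0 = root (root 0) := by
    refine (axial_start hσ hs).imp_right fun h => ?_
    rw [h0] at hopt
    simp only [Bool.or_eq_true, beq_iff_eq, Prod.mk.injEq] at hopt
    have e1 : rootL 0 = (root 0 : ℕ) := rootL_eq 0
    have e2 : rootL (rootL 0) = (root (root 0) : ℕ) := by rw [e1, rootL_eq]
    rw [e1, show rootL (root 0 : ℕ) = (root (root 0) : ℕ) from rootL_eq _] at hopt
    simp only [Fin.val_zero] at h
    rw [Fin.ext_iff, Fin.ext_iff]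
    omega
  rcases key with e | e | e
  · rw [one_of σ hσ e]; exact one_mem _
  · have := one_of (root * root * σ) ((axial_root.mul axial_root).mul hσ)
      (by simp only [Equiv.Perm.mul_apply, e, hr3])
    rw [eq_inv_of_mul_eq_one_right this]
    exact inv_mem (mul_mem mem mem)
  · have := one_of (root * σ) (axial_root.mul hσ) (by simp only [Equiv.Perm.mul_apply, e, hr3])
    rw [eq_inv_of_mul_eq_one_right this]
    exact inv_mem mem

theorem axis_image {h : L} (hh : IsAut h) (h1 : h 15 = 15) (h2 : h 29 = 29) : h '' axisSet = axisSet := by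
  have hq := hh.quad axisSet_quad
  rw [h1, h2] at hq
  have hc := quad_com axisSet_quad
  have e1 := (hc (h 51)).1 ⟨hq.2.1, hq.2.2.2.1⟩
  have e2 := (hc (h 103)).1 ⟨hq.2.2.1, hq.2.2.2.2.1⟩
  rw [axisSet_eq, Set.image_insert_eq, Set.image_insert_eq, Set.image_insert_eq, Set.image_singleton, h1, h2]
  have hne : h 51 ≠ h 103 := fun e => absurd (h.injective e) (by decide)
  rcases e1 with e1 | e1 <;> rcases e2 with e2 | e2
  · exact absurd (e1.trans e2.symm) hne
  · rw [e1, e2]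
  · rw [e1, e2, Set.pair_comm]
  · exact absurd (e1.trans e2.symm) hne

theorem conj_root_mem {h : L} (hh : IsAut h) : h * root * h⁻¹ ∈ loc.range := by
  obtain ⟨u, hu, hu'⟩ := trans_edge axisSet_quad.1 ((hh 15 29).2 axisSet_quad.1)
  have hg : IsAut ((loc u)⁻¹ * h) := (isAut_loc u).inv.mul hh
  have h1 : ((loc u)⁻¹ * h) 15 = 15 := by rw [Equiv.Perm.mul_apply, ← hu, perm_inv_apply]
  have h2 : ((loc u)⁻¹ * h) 29 = 29 := by rw [Equiv.Perm.mul_apply, ← hu', perm_inv_apply]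
  have hA := axial_root.conj hg
  rw [axis_image hg h1 h2] at hA
  obtain ⟨w, hw⟩ := axial_eq hA
  refine ⟨u * w * u⁻¹, ?_⟩
  rw [map_mul, map_mul, map_inv, hw]
  group

theorem root_ne_one : root ≠ 1 := by
  intro e
  obtain ⟨z, a, b, hz0, ha, hb, -, -, hcom, -, hr⟩ := opt_spec (y := 0) (by
    intro e0
    have h0 := root_ok.2.2.2.2.1
    have : axis.contains startPt = true := by rw [h0]; exact List.contains_iff_mem.2 e0
    rw [root_ok.2.2.2.2.2.1] at this
    exact Bool.false_ne_true this)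
  rw [e] at hr
  exact alj_irrefl _ ((hcom 0).2 hr).2

/-- All automorphisms of the local graph normalise the stabiliser. -/
theorem normalizes [IsSimpleGroup U] {h : L} (hh : IsAut h) (u : U) : h * loc u * h⁻¹ ∈ loc.range := by
  let S : Set U := {x | ∃ g : U, x = g * elemU rootW * g⁻¹}
  have hn : (Subgroup.closure S).Normal := by
    refine ⟨fun x hx g => ?_⟩
    induction hx using Subgroup.closure_induction with
    | mem y hy =>
      obtain ⟨k, rfl⟩ := hy
      exact Subgroup.subset_closure ⟨g * k, by group⟩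
    | one => rw [mul_one, mul_inv_cancel]; exact one_mem _
    | mul y z _ _ ihy ihz =>
      rw [show g * (y * z) * g⁻¹ = g * y * g⁻¹ * (g * z * g⁻¹) by group]
      exact mul_mem ihy ihz
    | inv y _ ihy =>
      rw [show g * y⁻¹ * g⁻¹ = (g * y * g⁻¹)⁻¹ by group]
      exact inv_mem ihy
  have hne : Subgroup.closure S ≠ ⊥ := by
    intro e
    have : elemU rootW ∈ Subgroup.closure S := Subgroup.subset_closure ⟨1, by group⟩
    rw [e, Subgroup.mem_bot] at this
    exact root_ne_one (by rw [root, this, map_one])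
  have htop := hn.eq_bot_or_eq_top.resolve_left hne
  have hu : u ∈ Subgroup.closure S := htop ▸ Subgroup.mem_top u
  clear htop hne
  induction hu using Subgroup.closure_induction with
  | mem y hy =>
    obtain ⟨k, rfl⟩ := hy
    rw [map_mul, map_mul, map_inv,
      show h * (loc k * loc (elemU rootW) * (loc k)⁻¹) * h⁻¹ = h * loc k * root * (h * loc k)⁻¹ by
        unfold root; group]
    exact conj_root_mem (hh.mul (isAut_loc k))
  | one => rw [map_one, mul_one, mul_inv_cancel]; exact one_mem _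
  | mul y z _ _ ihy ihz =>
    rw [map_mul, show h * (loc y * loc z) * h⁻¹ = h * loc y * h⁻¹ * (h * loc z * h⁻¹) by group]
    exact mul_mem ihy ihz
  | inv y _ ihy =>
    rw [map_inv, show h * (loc y)⁻¹ * h⁻¹ = (h * loc y * h⁻¹)⁻¹ by group]
    exact inv_mem ihy

/-! ### Invariant sets meeting every line in two points -/

/-- The element of order 7. -/
noncomputable def seven : U := elemU sevenW

theorem seven_lt : ∀ k ∈ sevenW, k < 3 := lt_three (by simp)

theorem five_lt : ∀ k ∈ fiveW, k < 3 := lt_three (by simp)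

theorem bval (b : Bool) : (if b then 1 else 0 : ℕ) = b.toNat := by cases b <;> rfl

theorem search_sound (b : ℕ → Bool) (hb : ∀ k < 16, ∀ l ∈ levels.getD k [], ∀ m : ℕ,
      (∀ i ≤ k, Nat.testBit m i = b i) → cntK m l = 2) :
    ∀ (rest : List (List (ℕ × ℕ × ℕ × ℕ))) (k m : ℕ), searchK rest k m = true → rest = levels.drop k →
      k ≤ 16 → m < 2 ^ k → (∀ i < k, Nat.testBit m i = b i) →
      ∃ s ∈ sols, ∀ i < 16, Nat.testBit s.1 i = b i := by
  intro rest
  induction rest with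
  | nil =>
    intro k m h hrest hk _ hm
    have h16 : k = 16 := by
      have := congrArg List.length hrest
      rw [List.length_nil, List.length_drop, levels_ok.1] at this
      omega
    simp only [searchK, List.any_eq_true, Nat.beq_eq] at h
    obtain ⟨s, hs, e⟩ := h
    exact ⟨s, hs, fun i hi => by rw [e]; exact hm i (h16 ▸ hi)⟩
  | cons ls rest ih =>
    intro k m h hrest hk hlt hm
    have hk16 : k < 16 := by
      by_contra hge
      rw [List.drop_eq_nil_of_le (by rw [levels_ok.1]; omega)] at hrest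
      exact List.cons_ne_nil _ _ hrest
    have hlen : k < levels.length := by rw [levels_ok.1]; exact hk16
    rw [List.drop_eq_getElem_cons hlen, List.cons.injEq] at hrest
    simp only [searchK, Bool.and_eq_true, Bool.or_eq_true, List.any_eq_true, Bool.not_eq_true',
      ← Bool.not_eq_true, Nat.beq_eq] at h
    have step : ∀ m' : ℕ, (∀ i ≤ k, Nat.testBit m' i = b i) → m' < 2 ^ (k + 1) →
        ((∃ l ∈ ls, ¬ cntK m' l = 2) ∨ searchK rest (k + 1) m' = true) →
        ∃ s ∈ sols, ∀ i < 16, Nat.testBit s.1 i = b i := by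
      intro m' hm' hlt' h'
      rcases h' with ⟨l, hl, hne⟩ | h'
      · exact absurd (hb k hk16 l (by rw [List.getD_eq_getElem _ _ hlen, ← hrest.1]; exact hl) m' hm') hne
      · exact ih (k + 1) m' h' hrest.2 hk16 hlt' fun i hi => hm' i (by omega)
    have hkbit : Nat.testBit m k = false := Nat.testBit_lt_two_pow hlt
    cases hbk : b k with
    | false =>
      refine step m (fun i hi => ?_) (by rw [pow_succ]; omega) h.1
      rcases lt_or_eq_of_le hi with hi | rfl
      · exact hm i hi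
      · rw [hkbit, hbk]
    | true =>
      refine step (m + 2 ^ k) (fun i hi => ?_) (by rw [pow_succ]; omega) h.2
      rw [add_comm]
      rcases lt_or_eq_of_le hi with hi | rfl
      · rw [Nat.testBit_two_pow_add_gt hi, hm i hi]
      · rw [Nat.testBit_two_pow_add_eq, hkbit, hbk]; rfl

/-- A set invariant under the element of order 7 meeting every line in two points is the image of the
set of a distant point under an automorphism. -/
theorem sets_known (S : Fin 112 → Bool) (hinv : ∀ i, S (loc seven i) = S i)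
    (hline : ∀ p q r s, IsQuad p q r s → (S p).toNat + (S q).toNat + (S r).toNat + (S s).toNat = 2) :
    ∃ σ : L, IsAut σ ∧ ∃ v, ∀ i, S i = true ↔ Mu v (σ i) := by
  let b : ℕ → Bool := fun k => if h : cycRep.getD k 0 < 112 then S ⟨_, h⟩ else false
  have hSb : ∀ i : Fin 112, S i = b (lk 4 cycK i) := by
    intro i
    have h := allF_iff.1 seven_ok.2.2 i i.2
    simp only [Bool.and_eq_true, Nat.blt_eq, Nat.beq_eq] at h
    obtain ⟨⟨-, hit⟩, hrep⟩ := h
    simp only [b, dif_pos hrep]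
    have hiter := iter_eq (forall2_L seven_lt) (cycPow.getD i 0) ⟨_, hrep⟩
    rw [prod_L, show elemU sevenW = seven from rfl] at hiter
    have hpow : ∀ (n : ℕ) (x : Fin 112), S ((loc seven ^ n) x) = S x := by
      intro n
      induction n with
      | zero => intro x; rfl
      | succ n ih => intro x; rw [pow_succ', Equiv.Perm.mul_apply, hinv, ih]
    rw [← hpow (cycPow.getD i 0) ⟨_, hrep⟩]
    exact congrArg S (Fin.ext (hit.symm.trans hiter))
  have hb : ∀ k < 16, ∀ l ∈ levels.getD k [], ∀ m : ℕ,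
      (∀ i ≤ k, Nat.testBit m i = b i) → cntK m l = 2 := by
    intro k hk l hl m hm
    have h := List.all_eq_true.1 (allF_iff.1 levels_ok.2 k hk) l hl
    simp only [Bool.and_eq_true, Nat.blt_eq, Nat.beq_eq] at h
    obtain ⟨⟨⟨⟨⟨⟨⟨⟨⟨a1, a2⟩, a3⟩, a4⟩, c1⟩, c2⟩, c3⟩, c4⟩, hadj⟩, hmask⟩ := h
    have hc := com_of_mask (i := ⟨_, a1⟩) (j := ⟨_, a2⟩) (b := ⟨_, a3⟩) (c := ⟨_, a4⟩) hmask
    obtain ⟨z, w, hne, hzw, hcom, -⟩ := exists_line (i := ⟨_, a1⟩) (j := ⟨_, a2⟩) hadj
    have hq : IsQuad ⟨_, a1⟩ ⟨_, a2⟩ z w :=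
      ⟨hadj, ((hcom z).2 (Or.inl rfl)).1, ((hcom w).2 (Or.inr rfl)).1, ((hcom z).2 (Or.inl rfl)).2,
        ((hcom w).2 (Or.inr rfl)).2, hzw⟩
    have hsum := hline _ _ _ _ hq
    have e3 := (hc z).1 ((hcom z).2 (Or.inl rfl))
    have e4 := (hc w).1 ((hcom w).2 (Or.inr rfl))
    have hz : z = ⟨_, a3⟩ ∧ w = ⟨_, a4⟩ ∨ z = ⟨_, a4⟩ ∧ w = ⟨_, a3⟩ := by
      rcases e3 with e3 | e3 <;> rcases e4 with e4 | e4
      · exact absurd (e3.trans e4.symm) hne
      · exact Or.inl ⟨e3, e4⟩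
      · exact Or.inr ⟨e3, e4⟩
      · exact absurd (e3.trans e4.symm) hne
    unfold cntK
    rw [hm _ (by omega), hm _ (by omega), hm _ (by omega), hm _ (by omega), bval, bval, bval, bval,
      ← hSb ⟨_, a1⟩, ← hSb ⟨_, a2⟩, ← hSb ⟨_, a3⟩, ← hSb ⟨_, a4⟩]
    rcases hz with ⟨rfl, rfl⟩ | ⟨rfl, rfl⟩ <;> omega
  obtain ⟨s, hs, hsb⟩ := search_sound b hb levels 0 0 search_ok (List.drop_zero).symm (by norm_num)
    (by norm_num) (fun i hi => absurd hi (Nat.not_lt_zero i))
  have h := List.all_eq_true.1 sols_ok s hs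
  simp only [Bool.and_eq_true, Nat.blt_eq] at h
  obtain ⟨hj, hv, hall⟩ := h
  have hjlen : s.2.1 < autL.length := by rw [aut_ok.1]; exact hj
  have hval : validK 7 112 (autL.getD s.2.1 (0, 0)).1 (autL.getD s.2.1 (0, 0)).2 = true := by
    rw [List.getD_eq_getElem _ _ hjlen]
    exact List.all_eq_true.1 aut_ok.2.1 _ (List.getElem_mem hjlen)
  let σ : L := permOf _ _ hval
  refine ⟨σ, fun x y => ?_, ⟨s.2.2, hv⟩, fun i => ?_⟩
  · have h := beq_iff_eq.1 (allF_iff.1 (allF_iff.1 (allF_iff.1 aut_ok.2.2 s.2.1 hj) x x.2) y y.2)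
    unfold Alj
    rw [← rep_permOf hval x, ← rep_permOf hval y]
    rw [h]
  · have h := beq_iff_eq.1 (allF_iff.1 hall i i.2)
    have hcl := allF_iff.1 seven_ok.2.2 i i.2
    simp only [Bool.and_eq_true, Nat.blt_eq] at hcl
    rw [hsb _ hcl.1.1] at h
    rw [hSb i, h, rep_permOf hval i]
    rfl

end CfsgLib.Sporadic.McLRank
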