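import Cfsg.Agent.Lib.Sporadic.McLRank.Check
import Cfsg.Agent.Lib.Sporadic.OutCert.McL.Group
import Cfsg.Agent.Lib.Sporadic.LeechUnitaryFour

/-!
The model: the McLaughlin group on 275 points, the stabiliser of a point and its action on the 112
neighbours of that point.
-/

set_option autoImplicit false
set_option maxRecDepth 10000

namespace CfsgLib.Sporadic.McLRank

open CfsgLib.Sporadic.OutCert
open CfsgLib.SmallGroups CfsgLib.SmallGroups.LeechVectorStab CfsgLib.SmallGroups.LeechPairs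

attribute [local irreducible] lk pkF allF compK iterK rowsK nbK posK farK farPosK alK muK lineTab genL
  allTree nearTree awayTree farTree farNearTree farAwayTree optTab cycK McL.ka McL.kb

/-- Permutations of the 275 points. -/
abbrev P : Type := Equiv.Perm (Fin 275)

/-- Permutations of the 112 neighbours. -/
abbrev L : Type := Equiv.Perm (Fin 112)

theorem perm_apply_inv {N : ℕ} (g : Equiv.Perm (Fin N)) (x : Fin N) : g (g⁻¹ x) = x := g.apply_symm_apply x

theorem perm_inv_apply {N : ℕ} (g : Equiv.Perm (Fin N)) (x : Fin N) : g⁻¹ (g x) = x := g.symm_apply_apply x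

/-- Adjacency in the graph. -/
def Adj (x y : Fin 275) : Prop := adjK x y = true

/-- Adjacency among the neighbours. -/
def Alj (i j : Fin 112) : Prop := aljK i j = true

theorem adj_symm {x y : Fin 275} (h : Adj x y) : Adj y x := by
  have h0 := (Bool.and_eq_true _ _).mp (allF_iff.1 rows_symm x x.2)
  have h1 := beq_iff_eq.1 (allF_iff.1 h0.2 y y.2)
  exact h1.symm.trans h

theorem adj_irrefl (x : Fin 275) : ¬ Adj x x := by
  have h0 := (Bool.and_eq_true _ _).mp (allF_iff.1 rows_symm x x.2)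
  unfold Adj
  simpa using h0.1

theorem adj_H {g : P} (hg : g ∈ McL.H) : ∀ x y, Adj (g x) (g y) ↔ Adj x y := by
  refine Subgroup.closure_induction (p := fun g _ => ∀ x y, Adj (g x) (g y) ↔ Adj x y) ?_ ?_ ?_ ?_ hg
  · rintro g (rfl | rfl) x y
    · have h := beq_iff_eq.1 (allF_iff.1 (allF_iff.1 rows_a x x.2) y y.2)
      rw [McL.rep_A x, McL.rep_A y] at h
      unfold Adj
      rw [h]
    · have h := beq_iff_eq.1 (allF_iff.1 (allF_iff.1 rows_b x x.2) y y.2)
      rw [McL.rep_B x, McL.rep_B y] at h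
      unfold Adj
      rw [h]
  · intro x y; rfl
  · intro g h _ _ hg hh x y
    exact (hg (h x) (h y)).trans (hh x y)
  · intro g _ hg x y
    have := hg (g⁻¹ x) (g⁻¹ y)
    rw [perm_apply_inv, perm_apply_inv] at this
    exact this.symm

theorem nb_facts (i : Fin 112) :
    nbAt i < 275 ∧ adjK 0 (nbAt i) = true ∧ lk 7 posK (nbAt i) = i := by
  have h := allF_iff.1 nb_ok.1 i i.2
  simpa [Bool.and_eq_true, Nat.blt_eq] using h

/-- A neighbour. -/
noncomputable def nb (i : Fin 112) : Fin 275 := ⟨nbAt i, (nb_facts i).1⟩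

theorem nb_injective : Function.Injective nb := fun i j e => Fin.ext (by
  rw [← (nb_facts i).2.2, ← (nb_facts j).2.2]
  exact congrArg (fun x : Fin 275 => lk 7 posK x) e)

theorem adj_nb (i : Fin 112) : Adj 0 (nb i) := (nb_facts i).2.1

theorem exists_nb {x : Fin 275} (h : Adj 0 x) : ∃ i, nb i = x := by
  have h' := allF_iff.1 nb_ok.2 x x.2
  unfold Adj at h
  simp only [Fin.val_zero] at h
  simp only [h, Bool.not_true, Bool.false_or, Bool.and_eq_true, Nat.blt_eq, Nat.beq_eq] at h'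
  exact ⟨⟨_, h'.1⟩, Fin.ext h'.2⟩

theorem far_facts (v : Fin 162) :
    farAt v < 275 ∧ farAt v ≠ 0 ∧ adjK 0 (farAt v) = false ∧ lk 8 farPosK (farAt v) = v := by
  have h := allF_iff.1 far_ok.1 v v.2
  simp only [Bool.and_eq_true, Nat.blt_eq, Bool.not_eq_true', Nat.beq_eq, ← Bool.not_eq_true] at h
  exact ⟨h.1, h.2.1, by simpa using h.2.2.1, h.2.2.2⟩

/-- A distant point. -/
noncomputable def far (v : Fin 162) : Fin 275 := ⟨farAt v, (far_facts v).1⟩

theorem far_injective : Function.Injective far := fun v w e => Fin.ext (by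
  rw [← (far_facts v).2.2.2, ← (far_facts w).2.2.2]
  exact congrArg (fun x : Fin 275 => lk 8 farPosK x) e)

theorem far_ne (v : Fin 162) : far v ≠ 0 := fun e => (far_facts v).2.1 (congrArg Fin.val e)

theorem not_adj_far (v : Fin 162) : ¬ Adj 0 (far v) := by
  unfold Adj
  intro h
  have h' : adjK 0 (farAt v) = true := h
  rw [(far_facts v).2.2.1] at h'
  exact Bool.false_ne_true h' 

theorem exists_far {x : Fin 275} (h0 : x ≠ 0) (h : ¬ Adj 0 x) : ∃ v, far v = x := by
  have h' := allF_iff.1 far_ok.2 x x.2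
  unfold Adj at h
  simp only [Fin.val_zero, Bool.not_eq_true] at h
  have hx : (x : ℕ).beq 0 = false := by
    rw [← Bool.not_eq_true, Nat.beq_eq]
    exact fun e => h0 (Fin.ext e)
  simp only [h, hx, Bool.false_or, Bool.and_eq_true, Nat.blt_eq, Nat.beq_eq] at h'
  exact ⟨⟨_, h'.1⟩, Fin.ext h'.2⟩

theorem alj_iff (i j : Fin 112) : Alj i j ↔ Adj (nb i) (nb j) := by
  have h := beq_iff_eq.1 (allF_iff.1 (allF_iff.1 al_ok i i.2) j j.2)
  unfold Alj Adj
  rw [h]; rfl

theorem alj_symm {i j : Fin 112} (h : Alj i j) : Alj j i := (alj_iff j i).2 (adj_symm ((alj_iff i j).1 h))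

theorem alj_irrefl (i : Fin 112) : ¬ Alj i i := fun h => adj_irrefl _ ((alj_iff i i).1 h)

/-- A neighbour of 0 and a distant point are adjacent. -/
def Mu (v : Fin 162) (i : Fin 112) : Prop := muJK v i = true

theorem mu_iff (v : Fin 162) (i : Fin 112) : Mu v i ↔ Adj (far v) (nb i) := by
  have h := beq_iff_eq.1 (allF_iff.1 (allF_iff.1 mu_ok v v.2) i i.2)
  unfold Mu Adj
  rw [h]; rfl

theorem mu_injective {v w : Fin 162} (h : ∀ i, Mu v i ↔ Mu w i) : v = w := by
  refine Fin.ext (List.inj_on_of_nodup_map mu_nodup (List.mem_range.2 v.2) (List.mem_range.2 w.2) ?_)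
  have hlt : ∀ x : ℕ, lk 112 muK x < 2 ^ 112 := fun x => by
    unfold lk; exact Nat.mod_lt _ (Nat.pow_pos (by norm_num))
  refine Nat.eq_of_testBit_eq fun i => ?_
  by_cases hi : i < 112
  · have := h ⟨i, hi⟩
    unfold Mu muJK at this
    exact Bool.eq_iff_iff.2 this
  · rw [Nat.testBit_lt_two_pow (lt_of_lt_of_le (hlt _) (Nat.pow_le_pow_right (by norm_num) (by omega))),
      Nat.testBit_lt_two_pow (lt_of_lt_of_le (hlt _) (Nat.pow_le_pow_right (by norm_num) (by omega)))]

/-- The stabiliser of the point 0. -/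
noncomputable def U : Subgroup P := McL.H ⊓ MulAction.stabilizer P (0 : Fin 275)

theorem U_fix (u : U) : (u : P) 0 = 0 := (Subgroup.mem_inf.1 u.2).2

theorem U_adj (u : U) (x y : Fin 275) : Adj ((u : P) x) ((u : P) y) ↔ Adj x y :=
  adj_H (Subgroup.mem_inf.1 u.2).1 x y

theorem U_nb (u : U) (i : Fin 112) : Adj 0 ((u : P) (nb i)) := by
  have h := (U_adj u 0 (nb i)).2 (adj_nb i)
  rwa [U_fix] at h

/-- The image of a neighbour index under an element fixing 0. -/
noncomputable def locFun (u : U) (i : Fin 112) : Fin 112 := (exists_nb (U_nb u i)).choose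

theorem nb_locFun (u : U) (i : Fin 112) : nb (locFun u i) = (u : P) (nb i) :=
  (exists_nb (U_nb u i)).choose_spec

/-- The action on the neighbours. -/
noncomputable def loc : U →* L where
  toFun u :=
    { toFun := locFun u
      invFun := locFun u⁻¹
      left_inv := fun i => nb_injective (by
        rw [nb_locFun, nb_locFun, InvMemClass.coe_inv, perm_inv_apply])
      right_inv := fun i => nb_injective (by
        rw [nb_locFun, nb_locFun, InvMemClass.coe_inv, perm_apply_inv]) }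
  map_one' := Equiv.ext fun i => nb_injective (nb_locFun 1 i)
  map_mul' u v := Equiv.ext fun i => nb_injective (by
    show nb (locFun (u * v) i) = nb (locFun u (locFun v i))
    rw [nb_locFun, nb_locFun, nb_locFun, Subgroup.coe_mul, Equiv.Perm.mul_apply])

theorem nb_loc (u : U) (i : Fin 112) : nb (loc u i) = (u : P) (nb i) := nb_locFun u i

theorem U_far (u : U) (v : Fin 162) : ∃ w, far w = (u : P) (far v) := by
  refine exists_far ?_ fun h => ?_
  · intro e
    exact far_ne v ((u : P).injective (e.trans (U_fix u).symm))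
  · rw [← U_fix u] at h
    exact not_adj_far v ((U_adj u _ _).1 h)

theorem mu_loc (u : U) {v w : Fin 162} (h : far w = (u : P) (far v)) (i : Fin 112) :
    Mu w (loc u i) ↔ Mu v i := by
  rw [mu_iff, mu_iff, h, nb_loc, U_adj]

theorem loc_injective : Function.Injective loc := by
  rw [← MonoidHom.ker_eq_bot_iff, Subgroup.eq_bot_iff_forall]
  intro u hu
  have hl : loc u = 1 := MonoidHom.mem_ker.1 hu
  refine Subtype.ext (Equiv.ext fun x => ?_)
  show (u : P) x = x
  by_cases h0 : x = 0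
  · rw [h0, U_fix]
  by_cases h : Adj 0 x
  · obtain ⟨i, rfl⟩ := exists_nb h
    rw [← nb_loc, hl]; rfl
  · obtain ⟨v, rfl⟩ := exists_far h0 h
    obtain ⟨w, hw⟩ := U_far u v
    have : w = v := mu_injective fun i => by
      have := mu_loc u hw i
      rwa [hl] at this
    rw [← hw, this]

/-- An automorphism of the local graph. -/
def IsAut (σ : L) : Prop := ∀ i j, Alj (σ i) (σ j) ↔ Alj i j

theorem isAut_loc (u : U) : IsAut (loc u) := fun i j => by
  rw [alj_iff, alj_iff, nb_loc, nb_loc, U_adj]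

theorem IsAut.mul {σ τ : L} (hσ : IsAut σ) (hτ : IsAut τ) : IsAut (σ * τ) := fun i j =>
  (hσ (τ i) (τ j)).trans (hτ i j)

theorem IsAut.inv {σ : L} (hσ : IsAut σ) : IsAut σ⁻¹ := fun i j => by
  have := hσ (σ⁻¹ i) (σ⁻¹ j)
  rw [perm_apply_inv, perm_apply_inv] at this
  exact this.symm

theorem wk_fix {k : ℕ} (hk : k < 3) : McL.wp (genW.getD k []) ∈ U := by
  refine Subgroup.mem_inf.2 ⟨McL.wp_mem _, ?_⟩
  have h := allF_iff.1 gen_ok.2.2.2 k hk
  simp only [Bool.and_eq_true, Nat.beq_eq] at h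
  have hk' : genK.getD k 0 = McL.wk (genW.getD k []) := by
    have : k < genW.length := by rw [gen_ok.1]; exact hk
    simp [genK, List.getD_eq_getElem, this]
  refine Fin.ext ((McL.rep_wp (genW.getD k []) 0).symm.trans ?_)
  rw [← hk']; exact h.1

/-- A generator of the stabiliser. -/
noncomputable def gU (k : ℕ) : U := if hk : k < 3 then ⟨_, wk_fix hk⟩ else 1

theorem rep_gU {k : ℕ} (hk : k < 3) : Rep 9 275 (genK.getD k 0) ((gU k : U) : P) := by
  have : k < genW.length := by rw [gen_ok.1]; exact hk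
  rw [gU, dif_pos hk]
  simpa [genK, List.getD_eq_getElem, this] using McL.rep_wp (genW.getD k [])

theorem rep_loc_gU {k : ℕ} (hk : k < 3) : Rep 7 112 (genLK.getD k 0) (loc (gU k)) := by
  intro i
  have h := allF_iff.1 gen_ok.2.2.2 k hk
  simp only [Bool.and_eq_true, allF_iff, Nat.beq_eq] at h
  have hlen : k < genL.length := by rw [gen_ok.2.1]; exact hk
  have hlt : lk 7 (genLK.getD k 0) i < 112 := by
    have hv := List.all_eq_true.1 gen_ok.2.2.1 _ (List.getElem_mem hlen)
    simp only [genLK, List.getD_eq_getElem, List.length_map, hlen, List.getElem_map]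
    exact (valid_at hv i).1
  have e : nb ⟨_, hlt⟩ = nb (loc (gU k) i) := by
    rw [nb_loc]
    exact Fin.ext ((h.2 i i.2).trans (rep_gU hk (nb i)))
  exact congrArg Fin.val (nb_injective e)

/-- A product of generators. -/
noncomputable def elemU (w : List ℕ) : U := (w.map gU).prod

theorem lt_three {w : List ℕ} (hw : w ∈ fixW ++ farFixW ++ singles ++ [fiveW, sevenW, rootW]) :
    ∀ k ∈ w, k < 3 := fun k hk => by
  simpa [Nat.blt_eq] using List.all_eq_true.1 (List.all_eq_true.1 words_lt w hw) k hk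

theorem forall2_G {w : List ℕ} (hw : ∀ k ∈ w, k < 3) :
    List.Forall₂ (Rep 9 275) (w.map fun k => genK.getD k 0) (w.map fun k => ((gU k : U) : P)) := by
  rw [List.forall₂_map_left_iff, List.forall₂_map_right_iff]
  exact List.forall₂_same.2 fun k hk => rep_gU (hw k hk)

theorem forall2_L {w : List ℕ} (hw : ∀ k ∈ w, k < 3) :
    List.Forall₂ (Rep 7 112) (w.map fun k => genLK.getD k 0) (w.map fun k => loc (gU k)) := by
  rw [List.forall₂_map_left_iff, List.forall₂_map_right_iff]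
  exact List.forall₂_same.2 fun k hk => rep_loc_gU (hw k hk)

theorem prod_L (w : List ℕ) : (w.map fun k => loc (gU k)).prod = loc (elemU w) := by
  rw [elemU, map_list_prod, List.map_map]; rfl

theorem appG_eq {w : List ℕ} (hw : ∀ k ∈ w, k < 3) (x : Fin 275) :
    appG w x = (((elemU w : U) : P) x : ℕ) := by
  rw [appG, app_eq (forall2_G hw) x, elemU, SubmonoidClass.coe_list_prod, List.map_map]
  rfl

theorem appL_eq {w : List ℕ} (hw : ∀ k ∈ w, k < 3) (i : Fin 112) :
    appL w i = (loc (elemU w) i : ℕ) := by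
  rw [appL, app_eq (forall2_L hw) i, prod_L]

theorem loc_pow_eq_one {w : List ℕ} (hw : ∀ k ∈ w, k < 3) {n : ℕ}
    (h : allF (fun i => Nat.beq (iterK 7 (w.map fun k => genLK.getD k 0) n i) i) 112 = true) :
    loc (elemU w) ^ n = 1 := by
  rw [← prod_L]
  exact (test_iff (forall2_L hw) n).1 h

/-- The points of a sound search list lie in one orbit. -/
theorem tree_reach {N : ℕ} (act : U →* Equiv.Perm (Fin N)) (app : List ℕ → ℕ → ℕ) {ws : List (List ℕ)}
    (happ : ∀ w ∈ ws, ∀ x : Fin N, app w x = (act (elemU w) x : ℕ)) (S : Subgroup U)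
    (hS : ∀ w ∈ ws, elemU w ∈ S) {T : List (ℕ × ℕ × ℕ)} (hT : treeK app ws T = true) (root : Fin N)
    (h0 : (T.getD 0 (0, 0, 0)).1 = root) :
    ∀ k, k < T.length → ∃ u ∈ S, (act u root : ℕ) = (T.getD k (0, 0, 0)).1 := by
  intro k
  induction k using Nat.strong_induction_on with
  | _ k ih =>
    intro hk
    by_cases hk0 : k = 0
    · subst hk0
      exact ⟨1, one_mem _, by rw [map_one, h0]; rfl⟩
    have h := allF_iff.1 hT k hk
    simp only [Bool.or_eq_true, Bool.and_eq_true, Nat.beq_eq, hk0, false_or, Nat.blt_eq] at h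
    obtain ⟨hp, hg, he⟩ := h
    obtain ⟨u, hu, hu'⟩ := ih _ hp (lt_trans hp hk)
    have hmem := List.getElem_mem hg
    rw [List.getD_eq_getElem _ _ hg, ← hu', happ _ hmem] at he
    exact ⟨_, mul_mem (hS _ hmem) hu, by rw [map_mul, Equiv.Perm.mul_apply]; exact he⟩

theorem inTree_reach {N : ℕ} (act : U →* Equiv.Perm (Fin N)) (app : List ℕ → ℕ → ℕ) {ws : List (List ℕ)}
    (happ : ∀ w ∈ ws, ∀ x : Fin N, app w x = (act (elemU w) x : ℕ)) (S : Subgroup U)
    (hS : ∀ w ∈ ws, elemU w ∈ S) {T : List (ℕ × ℕ × ℕ)} (hT : treeK app ws T = true) (root : Fin N)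
    (h0 : (T.getD 0 (0, 0, 0)).1 = root) {x : Fin N} (hx : inTree T x = true) :
    ∃ u ∈ S, act u root = x := by
  simp only [inTree, List.any_eq_true, Nat.beq_eq] at hx
  obtain ⟨e, he, hex⟩ := hx
  obtain ⟨k, hk, rfl⟩ := List.getElem_of_mem he
  obtain ⟨u, hu, hu'⟩ := tree_reach act app happ S hS hT root h0 k hk
  exact ⟨u, hu, Fin.ext (by rw [hu', List.getD_eq_getElem _ _ hk, hex])⟩

theorem single_lt {w : List ℕ} (hw : w ∈ singles) : ∀ k ∈ w, k < 3 :=
  lt_three (by simp [hw])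

theorem fixW_lt {w : List ℕ} (hw : w ∈ fixW) : ∀ k ∈ w, k < 3 := lt_three (by simp [hw])

theorem farFixW_lt {w : List ℕ} (hw : w ∈ farFixW) : ∀ k ∈ w, k < 3 := lt_three (by simp [hw])

theorem trans_all (i : Fin 112) : ∃ u : U, loc u 0 = i := by
  obtain ⟨u, -, hu⟩ := inTree_reach loc appL (ws := singles) (fun w hw => appL_eq (single_lt hw)) ⊤
    (fun _ _ => Subgroup.mem_top _) all_tree.1 0 all_tree.2.2 (allF_iff.1 all_tree.2.1 i i.2)
  exact ⟨u, hu⟩

/-- The elements fixing the first neighbour. -/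
noncomputable def fix0 : Subgroup U := (MulAction.stabilizer L (0 : Fin 112)).comap loc

theorem fix0_mem {w : List ℕ} (hw : w ∈ fixW) : elemU w ∈ fix0 := by
  obtain ⟨k, hk, rfl⟩ := List.getElem_of_mem hw
  have h := allF_iff.1 fix_ok.1 k hk
  rw [List.getD_eq_getElem _ _ hk, Nat.beq_eq] at h
  exact Fin.ext ((appL_eq (fixW_lt hw) 0).symm.trans h)

theorem trans_near {i : Fin 112} (h : Alj 0 i) : ∃ u ∈ fix0, loc u 32 = i := by
  have h' := allF_iff.1 fix_ok.2.2.2.2.2 i i.2
  unfold Alj at h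
  simp only [Fin.val_zero] at h
  rw [if_pos h] at h'
  exact inTree_reach loc appL (fun w hw => appL_eq (fixW_lt hw)) _ (fun _ => fix0_mem) fix_ok.2.1 32
    fix_ok.2.2.2.1 h'

theorem trans_away {i : Fin 112} (h : ¬ Alj 0 i) (h0 : i ≠ 0) : ∃ u ∈ fix0, loc u 1 = i := by
  have h' := allF_iff.1 fix_ok.2.2.2.2.2 i i.2
  unfold Alj at h
  simp only [Fin.val_zero] at h
  rw [if_neg h, Bool.or_eq_true, Nat.beq_eq] at h'
  exact inTree_reach loc appL (fun w hw => appL_eq (fixW_lt hw)) _ (fun _ => fix0_mem) fix_ok.2.2.1 1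
    fix_ok.2.2.2.2.1 (h'.resolve_left fun e => h0 (Fin.ext e))

theorem trans_edge {i j i' j' : Fin 112} (h : Alj i j) (h' : Alj i' j') :
    ∃ u : U, loc u i = i' ∧ loc u j = j' := by
  suffices key : ∀ {i j : Fin 112}, Alj i j → ∃ u : U, loc u 0 = i ∧ loc u 32 = j by
    obtain ⟨u, hu, hu'⟩ := key h
    obtain ⟨w, hw, hw'⟩ := key h'
    refine ⟨w * u⁻¹, ?_, ?_⟩ <;> rw [map_mul, map_inv, Equiv.Perm.mul_apply]
    · rw [Equiv.Perm.inv_eq_iff_eq.2 hu.symm, hw]
    · rw [Equiv.Perm.inv_eq_iff_eq.2 hu'.symm, hw']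
  intro i j h
  obtain ⟨u, hu⟩ := trans_all i
  have h' : Alj 0 ((loc u)⁻¹ j) := by
    rwa [← isAut_loc u, hu, perm_apply_inv]
  obtain ⟨w, hw, hw'⟩ := trans_near h'
  exact ⟨u * w, by rw [map_mul, Equiv.Perm.mul_apply, show loc w 0 = 0 from hw, hu],
    by rw [map_mul, Equiv.Perm.mul_apply, hw', perm_apply_inv]⟩

theorem trans_apart {i j i' j' : Fin 112} (h : ¬ Alj i j) (hne : i ≠ j) (h' : ¬ Alj i' j') (hne' : i' ≠ j') :
    ∃ u : U, loc u i = i' ∧ loc u j = j' := by
  suffices key : ∀ {i j : Fin 112}, ¬ Alj i j → i ≠ j → ∃ u : U, loc u 0 = i ∧ loc u 1 = j by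
    obtain ⟨u, hu, hu'⟩ := key h hne
    obtain ⟨w, hw, hw'⟩ := key h' hne'
    refine ⟨w * u⁻¹, ?_, ?_⟩ <;> rw [map_mul, map_inv, Equiv.Perm.mul_apply]
    · rw [Equiv.Perm.inv_eq_iff_eq.2 hu.symm, hw]
    · rw [Equiv.Perm.inv_eq_iff_eq.2 hu'.symm, hw']
  intro i j h hne
  obtain ⟨u, hu⟩ := trans_all i
  have h' : ¬ Alj 0 ((loc u)⁻¹ j) := by
    rwa [← isAut_loc u, hu, perm_apply_inv]
  obtain ⟨w, hw, hw'⟩ := trans_away h' fun e => hne (by rw [← hu, ← e, perm_apply_inv])
  exact ⟨u * w, by rw [map_mul, Equiv.Perm.mul_apply, show loc w 0 = 0 from hw, hu],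
    by rw [map_mul, Equiv.Perm.mul_apply, hw', perm_apply_inv]⟩

theorem trans_far (v : Fin 162) : ∃ u : U, (u : P) (far 0) = far v := by
  obtain ⟨u, -, hu⟩ := inTree_reach U.subtype appG (ws := singles) (fun w hw => appG_eq (single_lt hw)) ⊤
    (fun _ _ => Subgroup.mem_top _) far_tree.1 (far 0) far_tree.2.2 (x := far v)
    (allF_iff.1 far_tree.2.1 v v.2)
  exact ⟨u, hu⟩

/-- The elements fixing the first distant point. -/
noncomputable def farFix : Subgroup U := (MulAction.stabilizer P (far 0)).comap U.subtype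

theorem farFix_mem {w : List ℕ} (hw : w ∈ farFixW) : elemU w ∈ farFix := by
  obtain ⟨k, hk, rfl⟩ := List.getElem_of_mem hw
  have h := allF_iff.1 far_fix.1 k hk
  rw [List.getD_eq_getElem _ _ hk, Nat.beq_eq] at h
  exact Fin.ext ((appG_eq (farFixW_lt hw) (far 0)).symm.trans h)

theorem trans_far_fix {v w : Fin 162} (hv : v ≠ 0) (hw : w ≠ 0)
    (h : Adj (far 0) (far v) ↔ Adj (far 0) (far w)) :
    ∃ u ∈ farFix, (u : P) (far v) = far w := by
  obtain ⟨r, hr⟩ : ∃ r : Fin 275, ∀ z : Fin 162, z ≠ 0 → (Adj (far 0) (far z) ↔ Adj (far 0) (far v)) →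
      ∃ u ∈ farFix, (u : P) r = far z := by
    by_cases hA : Adj (far 0) (far v)
    · refine ⟨⟨(farNearTree.getD 0 (0, 0, 0)).1 % 275, Nat.mod_lt _ (by norm_num)⟩, fun z hz hz' => ?_⟩
      have h' := allF_iff.1 far_fix.2.2.2.1 z z.2
      rw [Bool.or_eq_true, Nat.beq_eq] at h'
      have h'' := h'.resolve_left fun e => hz (Fin.ext e)
      have hp : adjK (farAt 0) (farAt z) = true := hz'.2 hA
      rw [if_pos hp] at h''
      exact inTree_reach U.subtype appG (fun w hw => appG_eq (farFixW_lt hw)) _ (fun _ => farFix_mem)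
        far_fix.2.1 _ (by decide +kernel) (x := far z) h''
    · refine ⟨⟨(farAwayTree.getD 0 (0, 0, 0)).1 % 275, Nat.mod_lt _ (by norm_num)⟩, fun z hz hz' => ?_⟩
      have h' := allF_iff.1 far_fix.2.2.2.1 z z.2
      rw [Bool.or_eq_true, Nat.beq_eq] at h'
      have h'' := h'.resolve_left fun e => hz (Fin.ext e)
      have hn : ¬ adjK (farAt 0) (farAt z) = true := fun h => hA (hz'.1 h)
      rw [if_neg hn] at h''
      exact inTree_reach U.subtype appG (fun w hw => appG_eq (farFixW_lt hw)) _ (fun _ => farFix_mem)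
        far_fix.2.2.1 _ (by decide +kernel) (x := far z) h''
  obtain ⟨a, ha, ha'⟩ := hr v hv Iff.rfl
  obtain ⟨b, hb, hb'⟩ := hr w hw h.symm
  refine ⟨b * a⁻¹, mul_mem hb (inv_mem ha), ?_⟩
  rw [Subgroup.coe_mul, InvMemClass.coe_inv, Equiv.Perm.mul_apply, Equiv.Perm.inv_eq_iff_eq.2 ha'.symm, hb']

theorem range_psi : McL.psi.range = McL.H := by
  have hcard : Nat.card McL.psi.range = 898128000 := by
    rw [← Nat.card_congr (MonoidHom.ofInjective McL.psi_injective).toEquiv, LeechMcL.card_G2]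
  have hle : McL.H ≤ McL.psi.range := by
    refine (Subgroup.closure_le _).2 ?_
    rintro x (rfl | rfl)
    · exact McL.A_mem_range
    · exact McL.B_mem_range
  exact (Subgroup.eq_of_le_of_card_ge hle (by rw [hcard, McL.H_spec.2])).symm

theorem U_iso (K : Type) [Field K] [Fintype K] (hK : Fintype.card K = 9) :
    Nonempty (U ≃* Cfsg.PSU 4 K 3) := by
  classical
  obtain ⟨i⟩ := LeechUnitaryFour.stab_iso v48 vV (McL.vecAt 0) norm_v48 vV_mem (McL.vecAt 0).2 K hK
  let S : Subgroup Cfsg.Co0 := MulAction.stabilizer Cfsg.Co0 v48 ⊓ MulAction.stabilizer Cfsg.Co0 vV ⊓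
    MulAction.stabilizer Cfsg.Co0 (McL.vecAt 0 : Cfsg.leechLattice)
  have hmem : ∀ g : S, (g : Cfsg.Co0) ∈ LeechTwoPoint.G2 vV := fun g => (Subgroup.mem_inf.1 g.2).1
  let f : S →* P := McL.psi.comp (MonoidHom.mk' (fun g => ⟨g, hmem g⟩) fun _ _ => rfl)
  have hinj : Function.Injective f := McL.psi_injective.comp fun a b e =>
    Subtype.ext (congrArg Subtype.val e : _)
  have hr : f.range = U := by
    ext p
    constructor
    · rintro ⟨g, rfl⟩
      refine Subgroup.mem_inf.2 ⟨range_psi ▸ ⟨_, rfl⟩, ?_⟩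
      exact McL.psi_spec (g := ⟨g, hmem g⟩) (Subgroup.mem_inf.1 g.2).2
    · intro hp
      obtain ⟨h1, h2⟩ := Subgroup.mem_inf.1 hp
      rw [← range_psi] at h1
      obtain ⟨g, rfl⟩ := h1
      have hfix : (g : Cfsg.Co0) • (McL.vecAt 0 : Cfsg.leechLattice) = McL.vecAt 0 := by
        obtain ⟨j, hj⟩ := McL.vecEquiv.surjective ⟨_, McL.smul_mem g (McL.vecAt 0)⟩
        have hj' : (g : Cfsg.Co0) • (McL.vecAt 0 : Cfsg.leechLattice) = McL.vecAt j :=
          (congrArg Subtype.val hj).symm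
        have h3 := McL.psi_spec hj'
        rw [show McL.psi g 0 = 0 from h2] at h3
        rw [hj', ← h3]
      exact ⟨⟨g, Subgroup.mem_inf.2 ⟨g.2, hfix⟩⟩, rfl⟩
  exact ⟨((MulEquiv.subgroupCongr hr).symm.trans (MonoidHom.ofInjective hinj).symm).trans i⟩

theorem card_U : Nat.card U = 3265920 := by
  have h : 275 * Nat.card U = Nat.card McL.H := by
    have horb : MulAction.orbit McL.H (0 : Fin 275) = Set.univ := by
      refine Set.eq_univ_of_forall fun i => ?_
      obtain ⟨g, hg, e⟩ := McL.reach i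
      exact ⟨⟨g, hg⟩, e⟩
    have hst : Nat.card (MulAction.stabilizer McL.H (0 : Fin 275)) = Nat.card U := by
      refine Nat.card_congr
        { toFun := fun g => ⟨(g : McL.H), Subgroup.mem_inf.2 ⟨(g : McL.H).2, g.2⟩⟩
          invFun := fun u => ⟨⟨u, (Subgroup.mem_inf.1 u.2).1⟩, (Subgroup.mem_inf.1 u.2).2⟩
          left_inv := fun _ => rfl
          right_inv := fun _ => rfl }
    rw [← (MulAction.stabilizer McL.H (0 : Fin 275)).card_mul_index, MulAction.index_stabilizer, horb,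
      Set.ncard_univ, Nat.card_fin, hst, mul_comm]
  rw [McL.H_spec.2] at h
  omega

end CfsgLib.Sporadic.McLRank
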